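import Groth.Agent.An.H863.PtsBasic
import Mathlib.RingTheory.RingHom.Etale
import Mathlib.AlgebraicGeometry.Morphisms.Etale
import Mathlib.RingTheory.MvPolynomial.Basic

/-!
# Etale coordinates on schemes over `ℂ` (definitions)
-/

set_option autoImplicit false

open CategoryTheory AlgebraicGeometry

namespace Groth.Agent.An.H887.SchDef

/-- `X` has etale coordinates of dimension `n` near every complex point. -/
def HasCoord (n : ℕ) (X : Scheme.{0}) [X.Over An.SC] : Prop :=
  ∀ x : An.Pts X, ∃ (V : X.Opens) (_ : IsAffineOpen V) (_ : x.pt ∈ V)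
    (φ : MvPolynomial (Fin n) ℂ →+* Γ(X, V)), φ.Etale ∧
      φ.comp MvPolynomial.C = Groth.Agent.An.H863.PtsBasic.strU V

/-- `Spec A` over `Spec ℂ` for a `ℂ`-algebra `A`. -/
noncomputable abbrev specA (A : Type) [CommRing A] [Algebra ℂ A] : Scheme.{0} := Spec (CommRingCat.of A)

noncomputable instance specOver (A : Type) [CommRing A] [Algebra ℂ A] : (specA A).Over An.SC :=
  ⟨Spec.map (CommRingCat.ofHom (algebraMap ℂ A))⟩

end Groth.Agent.An.H887.SchDef
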