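import Groth.Agent.An.H887.GenProjB
import Mathlib.RingTheory.LocalProperties.Basic

/-!
# Generic projections: the local fibration in punctured lines

`one_step`: an algebra `A` etale over `K[y₀,…,y_n]` (char. 0) with a `K`-point `x` has a localization `A_a`,
`x(a) ≠ 0`, which is finite etale over `R'[z]_D`, `R' = K[y₁,…,y_n]_Δ`, `D` monic and separable.
-/

set_option autoImplicit false

open Polynomial

universe u

namespace Groth.Agent.An.H887.Tower

open Groth.Agent.An.H887.Coord Groth.Agent.An.H887.Pres Groth.Agent.An.H887.GenProj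
  Groth.Agent.An.H887.GenProjB

/-- iterated localizations -/
theorem exists_away {A A₁ L : Type u} [CommRing A] [CommRing A₁] [CommRing L] [Algebra A A₁]
    [Algebra A₁ L] [Algebra A L] [IsScalarTower A A₁ L] (f : A) [IsLocalization.Away f A₁] (b : A₁)
    [IsLocalization.Away b L] :
    ∃ b' : A, (∃ c : A₁, IsUnit c ∧ algebraMap A A₁ b' = b * c) ∧ IsLocalization.Away (f * b') L := by
  obtain ⟨g, ⟨_, m, rfl⟩, hg₀⟩ := IsLocalization.exists_mk'_eq (.powers f) b
  have hu : algebraMap A A₁ g = b * algebraMap A A₁ (f ^ m) := by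
    rw [← hg₀]
    exact (IsLocalization.mk'_spec A₁ g (⟨f ^ m, m, rfl⟩ : Submonoid.powers f)).symm
  have hunit : IsUnit (algebraMap A A₁ (f ^ m)) := by
    rw [map_pow]; exact (IsLocalization.Away.algebraMap_isUnit f).pow m
  refine ⟨g, ⟨_, hunit, hu⟩, ?_⟩
  suffices IsLocalization.Away (algebraMap A A₁ g) L from .mul' A₁ _ _ _
  refine IsLocalization.Away.of_associated (r := b) ⟨hunit.unit, ?_⟩
  rw [hu]
  rfl

theorem isPres_away {R L : Type u} [CommRing R] [CommRing L] [Algebra R L] (f : R)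
    [IsLocalization.Away f L] : IsPres (algebraMap R L) 0 f where
  zero := map_zero _
  unit := IsLocalization.Away.algebraMap_isUnit f
  lift _ _ _ _ hf := ⟨IsLocalization.Away.lift f hf, IsLocalization.Away.lift_comp f hf⟩
  ext _ _ _ _ hab := IsLocalization.ringHom_ext (Submonoid.powers f) hab

variable {K : Type u} [Field K] [CharZero K]

/-- The second projection: `R'[z]_D` as a localization of `K[y₀,…,y_m]`. -/
theorem second_step {m : ℕ} (Δ₁ : MvPolynomial (Fin (m + 1)) K) (h : MvPolynomial.eval 0 Δ₁ ≠ 0) :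
    ∃ (s : MvPolynomial (Fin (m + 1)) K) (Δ : MvPolynomial (Fin m) K) (D : (Localization.Away Δ)[X])
      (ψ : MvPolynomial (Fin (m + 1)) K →+* Localization.Away D),
      MvPolynomial.eval 0 s ≠ 0 ∧ MvPolynomial.eval 0 Δ ≠ 0 ∧ D.Monic ∧ D.Separable ∧
      IsPres ψ 0 (Δ₁ * s) ∧ ∀ c : K, ψ (MvPolynomial.C c) = algebraMap K _ c := by
  have hΔ₁ : Δ₁ ≠ 0 := by rintro rfl; rw [map_zero] at h; exact h rfl
  obtain ⟨y, k, hy1, hy2, hy3⟩ := exists_squarefree_dvd_pow_of_ne_zero hΔ₁
  have hyu : MvPolynomial.eval 0 y ≠ 0 := by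
    intro h0
    obtain ⟨z, hz⟩ := hy2
    rw [hz, map_mul, h0, zero_mul] at h
    exact h rfl
  obtain ⟨e, Δ, hΔ0, hΔ1, hΔ2, hΔ3⟩ := exists_coord hy1 0 (Or.inl hyu)
  set s : MvPolynomial (Fin (m + 1)) K := e.symm (C Δ) with hs
  have hsu : MvPolynomial.eval 0 s = MvPolynomial.eval 0 Δ := by
    rw [← hΔ3, hs, AlgEquiv.apply_symm_apply, coeff_C_zero]
  let R := MvPolynomial (Fin m) K
  let L := Localization.Away Δ
  have hΔu : IsUnit (algebraMap R L Δ) := IsLocalization.Away.algebraMap_isUnit Δ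
  have hlc1 : IsUnit (algebraMap R L (e y).leadingCoeff) :=
    isUnit_of_dvd_unit (map_dvd (algebraMap R L) hΔ1) hΔu
  obtain ⟨D, hDm, c, hc⟩ := exists_monic (e y) hlc1
  have hsep : ((e y).map (algebraMap R L)).Separable := isCoprime_of_mem Δ _ hΔ2
  have hsepD : D.Separable := by rw [← hc] at hsep; exact hsep.of_mul_left
  let ψ : MvPolynomial (Fin (m + 1)) K →+* Localization.Away D :=
    ((algebraMap L[X] (Localization.Away D)).comp (Polynomial.mapRingHom (algebraMap R L))).comp
      e.toRingEquiv.toRingHom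
  have hψ : ∀ w, ψ w = algebraMap L[X] (Localization.Away D) ((e w).map (algebraMap R L)) := fun w => rfl
  have hD : IsUnit (algebraMap L[X] (Localization.Away D) D) := IsLocalization.Away.algebraMap_isUnit D
  refine ⟨s, Δ, D, ψ, by rwa [hsu], hΔ0, hDm, hsepD, ⟨map_zero _, ?_, ?_, ?_⟩, ?_⟩
  · rw [map_mul]
    refine IsUnit.mul ?_ ?_
    · have h1 : IsUnit (ψ y) := by
        rw [hψ, ← hc, map_mul]
        exact hD.mul (c.isUnit.map _)
      have h2 : ψ Δ₁ ∣ ψ y ^ k := by rw [← map_pow]; exact map_dvd ψ hy3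
      exact isUnit_of_dvd_unit h2 (h1.pow k)
    · rw [hψ, hs, AlgEquiv.apply_symm_apply, Polynomial.map_C]
      exact (hΔu.map C).map _
  · intro T _ χ _ hf
    rw [map_mul] at hf
    let χ₁ : R[X] →+* T := χ.comp e.symm.toRingEquiv.toRingHom
    have hΔT : IsUnit ((χ₁.comp C) Δ) := isUnit_of_mul_isUnit_right hf
    let l : L →+* T := IsLocalization.Away.lift Δ hΔT
    have hl : l.comp (algebraMap R L) = χ₁.comp C := IsLocalization.Away.lift_comp Δ hΔT
    let n : L[X] →+* T := Polynomial.eval₂RingHom l (χ₁ X)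
    have hn : n.comp (Polynomial.mapRingHom (algebraMap R L)) = χ₁ := by
      ext r
      · have := RingHom.congr_fun hl (MvPolynomial.C r)
        simpa [n] using this
      · have := RingHom.congr_fun hl (MvPolynomial.X r)
        simpa [n] using this
      · simp [n]
    have hn' : ∀ w, n ((e w).map (algebraMap R L)) = χ w := by
      intro w
      have := RingHom.congr_fun hn (e w)
      change n ((e w).map (algebraMap R L)) = χ (e.symm (e w)) at this
      rwa [AlgEquiv.symm_apply_apply] at this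
    have hnD : IsUnit (n D) := by
      have h1 : IsUnit (χ y) := by
        refine isUnit_of_dvd_unit (map_dvd χ hy2) (isUnit_of_mul_isUnit_left hf)
      rw [← hn', ← hc, map_mul] at h1
      exact isUnit_of_mul_isUnit_left h1
    refine ⟨IsLocalization.Away.lift D hnD, ?_⟩
    refine RingHom.ext fun w => ?_
    change IsLocalization.Away.lift D hnD (ψ w) = χ w
    rw [hψ, IsLocalization.Away.lift_eq, hn']
  · intro T _ a b hab
    refine IsLocalization.ringHom_ext (Submonoid.powers D) ?_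
    refine Polynomial.ringHom_ext' ?_ ?_
    · refine IsLocalization.ringHom_ext (Submonoid.powers Δ) ?_
      ext r
      · have := RingHom.congr_fun hab (e.symm (C (MvPolynomial.C r)))
        simpa [hψ] using this
      · have := RingHom.congr_fun hab (e.symm (C (MvPolynomial.X r)))
        simpa [hψ] using this
    · have := RingHom.congr_fun hab (e.symm X)
      simpa [hψ] using this
  · intro c
    have h6 : e (MvPolynomial.C c) = C (MvPolynomial.C c) := by
      rw [← MvPolynomial.algebraMap_eq, ← MvPolynomial.algebraMap_eq, AlgEquiv.commutes]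
      rfl
    rw [hψ, h6, Polynomial.map_C, ← MvPolynomial.algebraMap_eq, ← IsScalarTower.algebraMap_apply,
      ← Polynomial.algebraMap_eq, ← IsScalarTower.algebraMap_apply, ← IsScalarTower.algebraMap_apply]

/-- The one-step fibration: `A_a` is finite etale over `R'[z]_D`, `R' = K[y₁,…,y_m]_Δ`. -/
theorem one_step {m : ℕ} {A : Type u} [CommRing A] [Algebra K A]
    [Algebra (MvPolynomial (Fin (m + 1)) K) A] [IsScalarTower K (MvPolynomial (Fin (m + 1)) K) A]
    [Algebra.Etale (MvPolynomial (Fin (m + 1)) K) A] (x : A →ₐ[K] K) :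
    ∃ (a : A) (Δ : MvPolynomial (Fin m) K) (D : (Localization.Away Δ)[X]),
      x a ≠ 0 ∧ D.Monic ∧ D.Separable ∧
      ∀ (L : Type u) [CommRing L] [Algebra A L] [IsLocalization.Away a L],
        ∃ g : Localization.Away D →+* L, g.Finite ∧ g.Etale ∧
          ∀ c : K, g (algebraMap K _ c) = algebraMap A L (algebraMap K A c) := by
  let R := MvPolynomial (Fin (m + 1)) K
  have hprime : (RingHom.ker x).IsPrime := RingHom.ker_isPrime x.toRingHom
  obtain ⟨f, hf, ⟨⟨S⟩⟩⟩ := Algebra.IsEtaleAt.exists_isStandardEtale (R := R) (S := A) (RingHom.ker x)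
  let A₁ := Localization.Away f
  have hxf : IsUnit (x f) := isUnit_iff_ne_zero.mpr hf
  let x₁ : A₁ →ₐ[K] K := IsLocalization.Away.liftAlgHom f (f := x) hxf
  have hx₁ : ∀ b : A, x₁ (algebraMap A A₁ b) = x b := by
    intro b
    exact IsLocalization.Away.lift_eq f hxf b
  obtain ⟨a₁, Δ₁, ha₁, hΔ₁, H₁⟩ := first_step_standard S x₁
  obtain ⟨s, Δ, D, ψ, hs, hΔ, hDm, hDs, hψ, hψc⟩ := second_step Δ₁ hΔ₁
  let L₁ := Localization.Away a₁
  have hxa₁ : IsUnit (x₁.toRingHom a₁) := isUnit_iff_ne_zero.mpr ha₁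
  let x₁' : L₁ →+* K := IsLocalization.Away.lift a₁ hxa₁
  have hx₁' : x₁'.comp (algebraMap A₁ L₁) = x₁.toRingHom := IsLocalization.Away.lift_comp a₁ hxa₁
  obtain ⟨g₁, hg₁f, hg₁e, hg₁c, hg₁x⟩ := H₁ L₁ x₁' hx₁'
  let R₁ := Localization.Away Δ₁
  let M := Localization.Away (algebraMap R R₁ s)
  let L₂ := Localization.Away (g₁ (algebraMap R R₁ s))
  -- `L₂` as a localization of `A`
  obtain ⟨b, ⟨c₁, hc₁, hb⟩, hbL⟩ := exists_away (A := A₁) (A₁ := L₁) (L := L₂) a₁ (g₁ (algebraMap R R₁ s))
  obtain ⟨b', ⟨c₂, hc₂, hb'⟩, hbL'⟩ := exists_away (A := A) (A₁ := A₁) (L := L₂) f (a₁ * b)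
  refine ⟨f * b', Δ, D, ?_, hDm, hDs, ?_⟩
  · rw [map_mul]
    refine mul_ne_zero hf ?_
    rw [← hx₁, hb', map_mul, map_mul]
    refine mul_ne_zero (mul_ne_zero ha₁ ?_) (hc₂.map x₁).ne_zero
    have h1 : x₁ b = x₁' (algebraMap A₁ L₁ b) := (RingHom.congr_fun hx₁' b).symm
    rw [h1, hb, map_mul, hg₁x]
    exact mul_ne_zero hs (hc₁.map x₁').ne_zero
  intro L _ _ _
  -- the map from the localization of the base
  have hM : IsPres ((algebraMap R₁ M).comp (algebraMap R R₁)) 0 (Δ₁ * (1 * s)) := by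
    have h0 : IsPres (algebraMap R R₁) (0 * 1) Δ₁ := by
      rw [zero_mul]; exact isPres_away Δ₁
    have : IsLocalization.Away (algebraMap R R₁ (1 * s)) M := by rw [one_mul]; infer_instance
    exact h0.localize s
  rw [one_mul] at hM
  obtain ⟨ε, hε⟩ := hψ.exists_equiv hM
  have hg₂f := RingHom.localization_away_map_finite R₁ L₁ M L₂ g₁ (algebraMap R R₁ s) hg₁f
  have hg₂e := RingHom.Etale.propertyIsLocal.localizationAwayPreserves g₁ (algebraMap R R₁ s) M L₂ hg₁e
  have hg₂m : ∀ r, IsLocalization.Away.map M L₂ g₁ (algebraMap R R₁ s) (algebraMap R₁ M r)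
      = algebraMap L₁ L₂ (g₁ r) := fun r => IsLocalization.map_eq _ _
  generalize IsLocalization.Away.map M L₂ g₁ (algebraMap R R₁ s) = g₂ at hg₂f hg₂e hg₂m
  let ι : L₂ ≃ₐ[A] L := IsLocalization.algEquiv (Submonoid.powers (f * b')) L₂ L
  refine ⟨ι.toRingEquiv.toRingHom.comp (g₂.comp ε.toRingHom), ?_, ?_, ?_⟩
  · exact RingHom.Finite.comp (RingHom.Finite.of_surjective _ ι.surjective)
      (RingHom.Finite.comp hg₂f (RingHom.Finite.of_surjective _ ε.surjective))
  · exact RingHom.Etale.stableUnderComposition _ _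
      (RingHom.Etale.stableUnderComposition _ _ (RingHom.Etale.of_bijective ε.bijective) hg₂e)
      (RingHom.Etale.of_bijective ι.bijective)
  · intro c
    have h1 : algebraMap K (Localization.Away D) c = ψ (MvPolynomial.C c) := (hψc c).symm
    have h2 : ε (ψ (MvPolynomial.C c)) = algebraMap R₁ M (algebraMap R R₁ (MvPolynomial.C c)) :=
      RingHom.congr_fun hε _
    have h3 : g₂ (algebraMap R₁ M (algebraMap R R₁ (MvPolynomial.C c)))
        = algebraMap L₁ L₂ (g₁ (algebraMap R R₁ (MvPolynomial.C c))) :=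
      hg₂m _
    change ι (g₂ (ε (algebraMap K (Localization.Away D) c))) = _
    rw [h1, h2, h3, hg₁c, ← IsScalarTower.algebraMap_apply A₁ L₁ L₂,
      IsScalarTower.algebraMap_apply K A A₁, ← IsScalarTower.algebraMap_apply A A₁ L₂]
    exact ι.commutes _

end Groth.Agent.An.H887.Tower
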