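import Mathlib.Analysis.Complex.Basic
import Mathlib.Analysis.Convex.Basic
import Mathlib.Topology.Instances.EReal.Lemmas
import Mathlib.Analysis.Complex.Convex

/-!
# Covering the complement of a finite set in `ℂ` by two families of disjoint rectangles
-/

set_option autoImplicit false

open Topology

namespace Groth.Agent.An.H887.Rect

/-- open rectangles, possibly unbounded or empty -/
def rect (a b c d : EReal) : Set ℂ :=
  {z | a < (z.re : EReal) ∧ (z.re : EReal) < b ∧ c < (z.im : EReal) ∧ (z.im : EReal) < d}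

theorem isOpen_rect (a b c d : EReal) : IsOpen (rect a b c d) := by
  have hre : Continuous fun z : ℂ => (z.re : EReal) :=
    continuous_coe_real_ereal.comp Complex.continuous_re
  have him : Continuous fun z : ℂ => (z.im : EReal) :=
    continuous_coe_real_ereal.comp Complex.continuous_im
  exact (isOpen_lt continuous_const hre).inter ((isOpen_lt hre continuous_const).inter
    ((isOpen_lt continuous_const him).inter (isOpen_lt him continuous_const)))

theorem rect_inter (a b c d a' b' c' d' : EReal) :
    rect a b c d ∩ rect a' b' c' d' = rect (max a a') (min b b') (max c c') (min d d') := by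
  ext z
  simp only [rect, Set.mem_inter_iff, Set.mem_ofPred_eq, max_lt_iff, lt_min_iff]
  tauto

theorem convex_coe_preimage (a b : EReal) : Convex ℝ {x : ℝ | a < (x : EReal) ∧ (x : EReal) < b} := by
  have : Set.OrdConnected {x : ℝ | a < (x : EReal) ∧ (x : EReal) < b} := by
    constructor
    intro x hx y hy z hz
    exact ⟨hx.1.trans_le (EReal.coe_le_coe_iff.mpr hz.1), (EReal.coe_le_coe_iff.mpr hz.2).trans_lt hy.2⟩
  exact this.convex

theorem convex_rect (a b c d : EReal) : Convex ℝ (rect a b c d) := by
  have h1 := (convex_coe_preimage a b).linear_preimage Complex.reLm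
  have h2 := (convex_coe_preimage c d).linear_preimage Complex.imLm
  have : rect a b c d = Complex.reLm ⁻¹' {x : ℝ | a < (x : EReal) ∧ (x : EReal) < b} ∩
      Complex.imLm ⁻¹' {x : ℝ | c < (x : EReal) ∧ (x : EReal) < d} := by
    ext z
    simp only [rect, Set.mem_inter_iff, Set.mem_ofPred_eq, Set.mem_preimage, Complex.reLm_coe,
      Complex.imLm_coe]
    tauto
  rw [this]
  exact h1.inter h2

/-- The two families of rectangles covering `ℂ ∖ F` when the imaginary parts of `F` are distinct. -/
theorem exists_families (F : Finset ℂ) (hF : Set.InjOn Complex.im (F : Set ℂ)) :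
    ∃ (I J : Type) (_ : Finite I) (_ : Finite J) (P : I → Set ℂ) (Q : J → Set ℂ),
      (∀ i, ∃ a b c d, P i = rect a b c d) ∧ (∀ j, ∃ a b c d, Q j = rect a b c d) ∧
      Pairwise (Function.onFun Disjoint P) ∧ Pairwise (Function.onFun Disjoint Q) ∧
      (⋃ i, P i) ∪ (⋃ j, Q j) = (F : Set ℂ)ᶜ := by
  classical
  -- the gap
  obtain ⟨δ, hδ, hgap⟩ : ∃ δ : ℝ, 0 < δ ∧ ∀ a ∈ F, ∀ b ∈ F, a ≠ b → 2 * δ ≤ |a.im - b.im| := by
    let S : Finset ℝ := ((F ×ˢ F).filter fun p => p.1 ≠ p.2).image fun p => |p.1.im - p.2.im|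
    rcases S.eq_empty_or_nonempty with hS | hS
    · refine ⟨1, one_pos, fun a ha b hb hab => ?_⟩
      exfalso
      have : |a.im - b.im| ∈ S :=
        Finset.mem_image.mpr ⟨(a, b), Finset.mem_filter.mpr ⟨Finset.mem_product.mpr ⟨ha, hb⟩, hab⟩, rfl⟩
      rw [hS] at this
      exact absurd this (Finset.notMem_empty _)
    · refine ⟨S.min' hS / 2, ?_, fun a ha b hb hab => ?_⟩
      · have h1 := S.min'_mem hS
        obtain ⟨⟨a, b⟩, hab, hm⟩ := Finset.mem_image.mp h1
        rw [Finset.mem_filter, Finset.mem_product] at hab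
        rw [← hm]
        have h2 : a.im ≠ b.im := fun h => hab.2 (hF hab.1.1 hab.1.2 h)
        have : 0 < |a.im - b.im| := abs_pos.mpr (sub_ne_zero.mpr h2)
        simpa using this
      · have : |a.im - b.im| ∈ S :=
          Finset.mem_image.mpr ⟨(a, b), Finset.mem_filter.mpr ⟨Finset.mem_product.mpr ⟨ha, hb⟩, hab⟩, rfl⟩
        have := S.min'_le _ this
        linarith
  let lo : Finset F → EReal := fun B => B.sup fun a => ((a.1.im : ℝ) : EReal)
  let hi : Finset F → EReal := fun B => (Bᶜ).inf fun a => ((a.1.im : ℝ) : EReal)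
  let P : Finset F → Set ℂ := fun B => rect ⊥ ⊤ (lo B) (hi B)
  let Q : F × Bool → Set ℂ := fun j =>
    rect (if j.2 then ((j.1.1.re : ℝ) : EReal) else ⊥) (if j.2 then ⊤ else ((j.1.1.re : ℝ) : EReal))
      ((j.1.1.im - δ : ℝ) : EReal) ((j.1.1.im + δ : ℝ) : EReal)
  have hP : ∀ B z, z ∈ P B ↔ (∀ a ∈ B, a.1.im < z.im) ∧ (∀ a ∉ B, z.im < a.1.im) := by
    intro B z
    simp only [P, rect, lo, hi, Set.mem_ofPred_eq, EReal.bot_lt_coe, EReal.coe_lt_top, true_and]
    rw [Finset.sup_lt_iff (EReal.bot_lt_coe _), Finset.lt_inf_iff (EReal.coe_lt_top _)]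
    simp only [EReal.coe_lt_coe_iff, Finset.mem_compl]
  have hQ : ∀ j z, z ∈ Q j ↔ (if j.2 then j.1.1.re < z.re else z.re < j.1.1.re) ∧
      |z.im - j.1.1.im| < δ := by
    rintro ⟨a, t⟩ z
    rw [abs_lt]
    cases t <;>
    · simp only [Q, rect, Set.mem_ofPred_eq, EReal.coe_lt_coe_iff, if_true, EReal.bot_lt_coe,
        EReal.coe_lt_top, true_and, Bool.false_eq_true, if_false]
      constructor
      · rintro ⟨h1, h2, h3⟩
        exact ⟨h1, by linarith, by linarith⟩
      · rintro ⟨h1, h2, h3⟩
        exact ⟨h1, by linarith, by linarith⟩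
  refine ⟨Finset F, F × Bool, inferInstance, inferInstance, P, Q, fun B => ⟨_, _, _, _, rfl⟩,
    fun j => ⟨_, _, _, _, rfl⟩, ?_, ?_, ?_⟩
  · intro B B' hBB
    rw [Function.onFun, Set.disjoint_left]
    intro z hz hz'
    rw [hP] at hz hz'
    apply hBB
    ext a
    constructor
    · intro ha
      by_contra ha'
      exact lt_asymm (hz.1 a ha) (hz'.2 a ha')
    · intro ha
      by_contra ha'
      exact lt_asymm (hz'.1 a ha) (hz.2 a ha')
  · rintro ⟨a, t⟩ ⟨a', t'⟩ hne
    rw [Function.onFun, Set.disjoint_left]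
    intro z hz hz'
    rw [hQ] at hz hz'
    have haa : a = a' := by
      by_contra hcon
      have h1 := hgap a.1 a.2 a'.1 a'.2 (fun h => hcon (Subtype.ext h))
      have h2 : |a.1.im - a'.1.im| ≤ |z.im - a.1.im| + |z.im - a'.1.im| := by
        rw [abs_sub_comm z.im a.1.im]
        exact abs_sub_le _ _ _
      linarith [hz.2, hz'.2]
    subst haa
    have htt : t ≠ t' := fun h => hne (by rw [h])
    have h1 := hz.1
    have h1' := hz'.1
    cases t <;> cases t'
    · exact htt rfl
    · simp only [Bool.false_eq_true, if_false, if_true] at h1 h1'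
      exact lt_asymm h1 h1'
    · simp only [Bool.false_eq_true, if_false, if_true] at h1 h1'
      exact lt_asymm h1 h1'
    · exact htt rfl
  · ext z
    simp only [Set.mem_union, Set.mem_iUnion, Set.mem_compl_iff, Finset.mem_coe]
    constructor
    · rintro (⟨B, hB⟩ | ⟨j, hj⟩) hz
      · rw [hP] at hB
        by_cases h : (⟨z, hz⟩ : F) ∈ B
        · exact lt_irrefl _ (hB.1 _ h)
        · exact lt_irrefl _ (hB.2 _ h)
      · rw [hQ] at hj
        have haz : j.1.1 = z := by
          by_contra hcon
          have h1 := hgap z hz j.1.1 j.1.2 (fun h => hcon h.symm)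
          linarith [hj.2]
        obtain ⟨h1, -⟩ := hj
        rw [haz] at h1
        split_ifs at h1 <;> exact lt_irrefl _ h1
    · intro hz
      by_cases h : ∃ a : F, a.1.im = z.im
      · right
        obtain ⟨a, ha⟩ := h
        have hre : a.1.re ≠ z.re := fun h => hz (by
          have : a.1 = z := Complex.ext h ha
          rw [← this]; exact a.2)
        rcases lt_or_gt_of_ne hre with h1 | h1
        · refine ⟨(a, true), ?_⟩
          rw [hQ]
          exact ⟨by simpa using h1, by rw [ha, sub_self, abs_zero]; exact hδ⟩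
        · refine ⟨(a, false), ?_⟩
          rw [hQ]
          exact ⟨by simpa using h1, by rw [ha, sub_self, abs_zero]; exact hδ⟩
      · left
        push Not at h
        refine ⟨Finset.univ.filter fun a : F => a.1.im < z.im, ?_⟩
        rw [hP]
        constructor
        · intro a ha
          simpa using ha
        · intro a ha
          have : ¬ a.1.im < z.im := by simpa using ha
          exact lt_of_le_of_ne (not_lt.mp this) (h a).symm

end Groth.Agent.An.H887.Rect
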