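import Groth.Agent.An.H887.LD
import Groth.Agent.An.H890.EpsBC
import Groth.Agent.An.H888.ClsLeray
import Groth.Agent.An.H885.EpsGerm
import Groth.Agent.An.H886.Algebraic
import Groth.Agent.An.H416.Coord
import Groth.Agent.An.H537.ClCell

/-!
# Local killing of classes along a morphism `f : X ⟶ S`, and in dimension zero

* `diesFrom_of_LDat`, `LDat_of_diesFrom`: between `LDat` and `ClsLeray.DiesFrom`;
* `LDat_zero`: the case `HasCoord 0 X`.
-/

set_option autoImplicit false

open CategoryTheory CategoryTheory.Limits AlgebraicGeometry Opposite CategoryTheory.Abelian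
open TopologicalSpace Topology

noncomputable section

namespace Groth.Agent.An.H887.Step

open Groth.Agent.Proet.ZU Groth.Agent.An.H888.ClsH Groth.Agent.An.H888.ClsLoc
open Groth.Agent.An.H888.Dies Groth.Agent.An.H885 Groth.Agent.An.H888 Groth.Agent.An.H884.ClBC
open Groth.Agent.An.H887.LD Groth.Agent.An.H887.SchDef Groth.Agent.An.H890.EpsBC

section

variable {S : Scheme.{0}} [S.Over An.SC] [LocallyOfFiniteType (S ↘ An.SC)] [Fact An.EtaleLH]

/-- A complex point as a point of the terminal object of the étale site. -/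
def topPt (s : An.Pts S) : An.Pts (EtCoh.top S).left :=
  ⟨s.1, by
    change s.1 ≫ 𝟙 S ≫ (S ↘ An.SC) = 𝟙 _
    rw [Category.id_comp]
    exact s.2⟩

theorem p_topPt (s : An.Pts S) : ((An.eps S).obj (EtCoh.top S)).p (topPt s) = s :=
  Subtype.ext (Category.comp_id _)

theorem diesFrom_of_LDat {F : An.Cl.Ab (An.Pts S)} {n : ℕ}
    (h : ∀ (U : S.Etale) (q : ℕ), n ≤ q → ∀ a : An.Pts U.left,
      LDat (X := U.left) ((restr ((An.eps S).obj U)).obj F) q a) :
    ClsLeray.DiesFrom.{1, 1} (An.eps S) S.smallEtaleTopology n F := by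
  intro U q hq x
  let R : Sieve U :=
    { arrows := fun V g => res ((An.eps S).map g) x = 0
      downward_closed := fun {V W} g hg f => by
        rw [Functor.map_comp]
        exact res_zero_of_res _ _ _ hg }
  refine ⟨R, mem_smallEtale_of_pts S R (fun a => ?_), fun V g hg => hg⟩
  obtain ⟨V, g, b, hb, h'⟩ := diesAt_of_LDat (h U q hq a) x
  exact ⟨V, g, b, hb, h'⟩

theorem LDat_of_diesFrom {X : Scheme.{0}} [X.Over An.SC] [LocallyOfFiniteType (X ↘ An.SC)]
    (f : X ⟶ S) [f.IsOver An.SC] {G : An.Cl.Ab (An.Pts X)} {n q : ℕ} (hq : n ≤ q)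
    (h : ClsLeray.DiesFrom.{1, 1} (An.eps S ⋙ clBC (An.Pts.mapC f)) S.smallEtaleTopology n G)
    (a : An.Pts X) : LDat G q a := by
  intro x
  obtain ⟨R, hR, h⟩ := h (EtCoh.top S) q hq (res (toSelf _) x)
  rw [Groth.Agent.EtpbcA.OverSite.mem_smallEtale_iff] at hR
  let s : An.Pts (EtCoh.top S).left := topPt (An.Pts.map f a)
  obtain ⟨V, g, v, hRg, hv⟩ := hR s.pt
  obtain ⟨b, hb, -⟩ := EpsGerm.exists_pts_lift S g s v hv
  have hab : An.Pts.mapC f a = ((An.eps S).obj V).p b := by
    rw [← ((An.eps S).map g).over b]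
    exact (p_topPt (An.Pts.map f a)).symm.trans
      (congrArg ((An.eps S).obj (EtCoh.top S)).p hb.symm)
  let z : ((clBC (An.Pts.mapC f)).obj ((An.eps S).obj V)).E := ⟨(a, b), hab⟩
  refine ⟨(EtCoh.bc f).obj V, (isoCl f V).inv.toFun z, ?_, ?_⟩
  · exact (isoCl f V).inv.over z
  · have h1 := h g hRg
    rw [res_res] at h1
    have h2 : toSelf ((An.eps X).obj ((EtCoh.bc f).obj V)) =
        (isoCl f V).hom ≫ ((An.eps S ⋙ clBC (An.Pts.mapC f)).map g ≫ toSelf _) :=
      (selfIsTerminal (An.Pts X)).hom_ext _ _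
    rw [h2, ← res_res, h1, res_zero]

end

section Zero

variable {X : Scheme.{0}} [X.Over An.SC] [LocallyOfFiniteType (X ↘ An.SC)] [Fact An.EtaleLH]

theorem LDat_zero (hX : HasCoord 0 X) {G : An.Cl.Ab (An.Pts X)}
    (hG : H886.LocConst.IsLC G) {q : ℕ} (hq : 0 < q) (a : An.Pts X) : LDat G q a := by
  intro x
  let U := EtCoh.top X
  have hU : Etale (U.left ↘ X) := U.prop
  have hU' : HasCoord 0 U.left := Groth.Agent.An.H416.Coord.HasCoord.of_etale (U.left ↘ X) hX
  have hd : DiscreteTopology (An.Pts U.left) := H416.Coord.discreteTopology_of_hasCoord_zero hU'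
  have := lft_left U
  obtain ⟨W, hW, hS⟩ := Groth.Agent.An.H868.Clopen.exists_isClopen (X := U.left)
    Groth.Agent.An.H869.Conn.conn (S := {topPt a}) (isClopen_discrete _)
  let O : U.left.Opens := ⟨W, hW.2⟩
  have hmem : ∀ z : An.Pts U.left, z.pt ∈ O ↔ z = topPt a := fun z => (Set.ext_iff.1 hS z).symm
  obtain ⟨w, hw⟩ := H886.Algebraic.exists_lift_pt U O (topPt a) ((hmem _).2 rfl)
  have hsub : ∀ w' : ((An.eps X).obj (H886.Algebraic.restr U O)).E, w' = w := by
    intro w'
    have h1 := (hmem _).1 (H886.Algebraic.pt_map_restrι U O w')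
    have h2 : ((An.eps X).map (H886.Algebraic.restrι U O)).toFun w' =
        ((An.eps X).map (H886.Algebraic.restrι U O)).toFun w := h1.trans hw.symm
    have h3 : (w'.1 : Spec (CommRingCat.of ℂ) ⟶ _) ≫ O.ι = w.1 ≫ O.ι := congrArg Subtype.val h2
    exact Subtype.ext ((cancel_mono O.ι).1 h3)
  have hcell : H537.Cell.IsCell ((An.eps X).obj (H886.Algebraic.restr U O)).E := by
    let _ : Unique ((An.eps X).obj (H886.Algebraic.restr U O)).E := ⟨⟨w⟩, hsub⟩
    exact H537.Cell.isCell_of_unique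
  refine ⟨H886.Algebraic.restr U O, w, ?_, H537.ClCell.HA_eq_zero hcell
    (H537.ClBox.lcOn_of_isLC hG _) hq _⟩
  rw [← ((An.eps X).map (H886.Algebraic.restrι U O)).over w, hw]
  exact p_topPt a

end Zero

end Groth.Agent.An.H887.Step
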