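import Groth.Agent.An.H887.LineB

/-!
# Linear coordinates adapted to a transversal line

`exists_coord`: for a squarefree polynomial `P` in `m+1` variables over a field of characteristic zero, which
is nonzero at `u` or has nonzero differential at `u`, there are an isomorphism
`e : K[w₀,…,w_m] ≃ K[y₁,…,y_m][X]` taking the point `u` to the origin and `Δ ∈ K[y]` with `Δ(0) ≠ 0` such that
the leading coefficient of `e P` divides `Δ` and `Δ` is in the ideal generated by `e P` and its derivative.
-/

set_option autoImplicit false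

open Polynomial

namespace Groth.Agent.An.H887.Coord

open Groth.Agent.An.H887.Line Groth.Agent.An.H887.LineB

variable {K : Type*} [Field K] {m : ℕ}

section equiv

/-- translation by `u` -/
noncomputable def trans {n : ℕ} (u : Fin n → K) : MvPolynomial (Fin n) K ≃ₐ[K] MvPolynomial (Fin n) K :=
  AlgEquiv.ofAlgHom
    (MvPolynomial.aeval fun i => MvPolynomial.X i + MvPolynomial.C (u i))
    (MvPolynomial.aeval fun i => MvPolynomial.X i - MvPolynomial.C (u i))
    (by
      ext i
      simp [← MvPolynomial.algebraMap_eq])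
    (by
      ext i
      simp [← MvPolynomial.algebraMap_eq])

@[simp] theorem trans_X {n : ℕ} (u : Fin n → K) (i : Fin n) :
    trans u (MvPolynomial.X i) = MvPolynomial.X i + MvPolynomial.C (u i) := by
  simp [trans]

theorem eval_trans {n : ℕ} (u w : Fin n → K) (p : MvPolynomial (Fin n) K) :
    MvPolynomial.eval w (trans u p) = MvPolynomial.eval (w + u) p := by
  have : ((MvPolynomial.aeval w : MvPolynomial (Fin n) K →ₐ[K] K).comp (trans u).toAlgHom)
      = MvPolynomial.aeval (w + u) := by
    ext i
    simp
  exact DFunLike.congr_fun this p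

theorem pderiv_trans {n : ℕ} (u : Fin n → K) (i : Fin n) (P : MvPolynomial (Fin n) K) :
    MvPolynomial.pderiv i (trans u P) = trans u (MvPolynomial.pderiv i P) := by
  induction P using MvPolynomial.induction_on with
  | C a =>
    have h1 : trans u (MvPolynomial.C a) = MvPolynomial.C a := by
      rw [← MvPolynomial.algebraMap_eq, AlgEquiv.commutes]
    rw [h1, MvPolynomial.pderiv_C, map_zero]
  | add p q hp hq => rw [map_add, map_add, map_add, map_add, hp, hq]
  | mul_X p j hp =>
    rw [map_mul, MvPolynomial.pderiv_mul, MvPolynomial.pderiv_mul, hp, map_add, map_mul, map_mul,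
      trans_X]
    congr 2
    by_cases h : i = j
    · subst h; simp
    · rw [map_add, MvPolynomial.pderiv_C, add_zero, MvPolynomial.pderiv_X_of_ne (Ne.symm h), map_zero]

/-- the shear `w₀ ↦ w₀`, `w_{i+1} ↦ w_{i+1} + v_i w₀` -/
noncomputable def shear (v : Fin m → K) :
    MvPolynomial (Fin (m + 1)) K ≃ₐ[K] MvPolynomial (Fin (m + 1)) K :=
  AlgEquiv.ofAlgHom
    (MvPolynomial.aeval (Fin.cons (MvPolynomial.X 0)
      fun i => MvPolynomial.X i.succ + MvPolynomial.C (v i) * MvPolynomial.X 0))
    (MvPolynomial.aeval (Fin.cons (MvPolynomial.X 0)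
      fun i => MvPolynomial.X i.succ - MvPolynomial.C (v i) * MvPolynomial.X 0))
    (by
      refine MvPolynomial.algHom_ext fun i => ?_
      refine Fin.cases ?_ (fun j => ?_) i
      · simp
      · simp [← MvPolynomial.algebraMap_eq])
    (by
      refine MvPolynomial.algHom_ext fun i => ?_
      refine Fin.cases ?_ (fun j => ?_) i
      · simp
      · simp [← MvPolynomial.algebraMap_eq])

/-- the linear substitution `w₀ = X`, `w_{i+1} = y_i + v_i X` -/
noncomputable def lin (v : Fin m → K) :
    MvPolynomial (Fin (m + 1)) K ≃ₐ[K] (MvPolynomial (Fin m) K)[X] :=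
  (shear v).trans (MvPolynomial.finSuccEquiv K m)

@[simp] theorem lin_X_zero (v : Fin m → K) : lin v (MvPolynomial.X 0) = X := by
  simp [lin, shear, MvPolynomial.finSuccEquiv_X_zero]

@[simp] theorem lin_X_succ (v : Fin m → K) (i : Fin m) :
    lin v (MvPolynomial.X i.succ) = C (MvPolynomial.X i) + C (MvPolynomial.C (v i)) * X := by
  have h : ∀ c : K, MvPolynomial.finSuccEquiv K m (MvPolynomial.C c) = C (MvPolynomial.C c) := by
    intro c
    rw [← MvPolynomial.algebraMap_eq, AlgEquiv.commutes]
    rfl
  simp [lin, shear, MvPolynomial.finSuccEquiv_X_zero, MvPolynomial.finSuccEquiv_X_succ, h]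

/-- restricting to `y = 0` gives the restriction to the line in direction `(1, v)` -/
theorem map_lin (v : Fin m → K) (P : MvPolynomial (Fin (m + 1)) K) :
    (lin v P).map (MvPolynomial.eval 0) = (theta K m P).map (MvPolynomial.eval v) := by
  let f : (MvPolynomial (Fin m) K)[X] →ₐ[K] K[X] := Polynomial.mapAlgHom (MvPolynomial.aeval 0)
  let g : (MvPolynomial (Fin m) K)[X] →ₐ[K] K[X] := Polynomial.mapAlgHom (MvPolynomial.aeval v)
  have h : f.comp (lin v).toAlgHom = g.comp (theta K m) := by
    refine MvPolynomial.algHom_ext fun i => ?_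
    refine Fin.cases ?_ (fun j => ?_) i
    · simp [f, g]
    · simp [f, g]
  exact DFunLike.congr_fun h P

theorem natDegree_lin_le (v : Fin m → K) (P : MvPolynomial (Fin (m + 1)) K) :
    (lin v P).natDegree ≤ P.totalDegree := by
  have h := MvPolynomial.aeval_natDegree_le (m := P.totalDegree) (n := 1)
    (P.map (MvPolynomial.C : K →+* MvPolynomial (Fin m) K))
    (Finset.sup_mono (MvPolynomial.support_map_subset ..))
    (fun i => lin v (MvPolynomial.X i)) (fun i => by
      refine Fin.cases ?_ (fun j => ?_) i
      · rw [lin_X_zero]; exact natDegree_X_le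
      · rw [lin_X_succ]
        refine (natDegree_add_le _ _).trans (max_le (by simp) ?_)
        exact (natDegree_C_mul_le _ _).trans natDegree_X_le)
  rw [mul_one] at h
  have h2 : MvPolynomial.aeval (fun i => lin v (MvPolynomial.X i)) = (lin v).toAlgHom :=
    MvPolynomial.algHom_ext fun i => by simp
  have h3 : MvPolynomial.aeval (R := MvPolynomial (Fin m) K) (fun i => lin v (MvPolynomial.X i))
      (P.map MvPolynomial.C) = lin v P := by
    rw [← MvPolynomial.algebraMap_eq, MvPolynomial.aeval_map_algebraMap, h2]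
    rfl
  rw [h3] at h
  exact h

end equiv

section main

variable [CharZero K]

/-- Coordinates adapted to a transversal line through the origin. -/
theorem exists_coord₀ {P : MvPolynomial (Fin (m + 1)) K} (hP : Squarefree P)
    (h : MvPolynomial.eval 0 P ≠ 0 ∨ ∃ i, MvPolynomial.eval 0 (MvPolynomial.pderiv i P) ≠ 0) :
    ∃ (e : MvPolynomial (Fin (m + 1)) K ≃ₐ[K] (MvPolynomial (Fin m) K)[X]) (Δ : MvPolynomial (Fin m) K),
      MvPolynomial.eval 0 Δ ≠ 0 ∧ (e P).leadingCoeff ∣ Δ ∧
      C Δ ∈ Ideal.span {e P, derivative (e P)} ∧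
      ∀ p, MvPolynomial.eval 0 ((e p).coeff 0) = MvPolynomial.eval 0 p := by
  obtain ⟨v, hv1, hv2⟩ := exists_line hP (not_dvd_theta h)
  rw [← map_lin] at hv1 hv2
  set Q := lin v P with hQ
  set φ := Q.map (MvPolynomial.eval 0) with hφ
  have hP0 : P ≠ 0 := hP.ne_zero
  have hQ0 : Q ≠ 0 := by rwa [hQ, Ne, map_eq_zero_iff _ (lin v).injective]
  have hdeg : φ.natDegree = Q.natDegree := by
    apply le_antisymm (natDegree_map_le)
    rw [hv1]
    exact natDegree_lin_le v P
  have hlc : MvPolynomial.eval 0 Q.leadingCoeff = φ.leadingCoeff := by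
    rw [Polynomial.leadingCoeff, Polynomial.leadingCoeff, hdeg, hφ, coeff_map]
  have hφ0 : φ ≠ 0 := hv2.ne_zero
  have hlc0 : MvPolynomial.eval 0 Q.leadingCoeff ≠ 0 := by
    rw [hlc]; exact leadingCoeff_ne_zero.mpr hφ0
  have hd1 : (derivative Q).natDegree = Q.natDegree - 1 := Polynomial.natDegree_derivative Q
  have hd2 : (derivative φ).natDegree = Q.natDegree - 1 := by
    rw [Polynomial.natDegree_derivative, hdeg]
  have hres : MvPolynomial.eval 0 (Q.resultant (derivative Q)) ≠ 0 := by
    have h2 : φ.resultant (derivative φ) ≠ 0 := by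
      rw [Ne, resultant_eq_zero_iff, not_and_not_right]
      intro _
      exact hv2
    rw [hd2, hdeg, hφ, derivative_map, resultant_map_map, ← hd1] at h2
    exact h2
  refine ⟨lin v, Q.leadingCoeff * Q.resultant (derivative Q), ?_, dvd_mul_right _ _, ?_, ?_⟩
  · rw [map_mul]; exact mul_ne_zero hlc0 hres
  · rcases Nat.eq_zero_or_pos Q.natDegree with h0 | h0
    · rw [C_mul]
      refine Ideal.mul_mem_right _ _ (Ideal.subset_span ?_)
      left
      have := Polynomial.eq_C_of_natDegree_eq_zero h0
      rw [Polynomial.leadingCoeff, h0]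
      exact this.symm
    · obtain ⟨p, q, -, -, hpq⟩ := exists_mul_add_mul_eq_C_resultant Q (derivative Q) le_rfl le_rfl
        (Or.inl h0.ne')
      rw [C_mul, ← hpq]
      refine Ideal.mul_mem_left _ _ (Ideal.add_mem _ (Ideal.mul_mem_right _ _ (Ideal.subset_span ?_))
        (Ideal.mul_mem_right _ _ (Ideal.subset_span ?_)))
      · left; rfl
      · right; rfl
  · intro p
    let f : MvPolynomial (Fin (m + 1)) K →+* K :=
      ((MvPolynomial.eval (0 : Fin m → K)).comp Polynomial.constantCoeff).comp (lin v).toRingEquiv.toRingHom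
    have hf : f = MvPolynomial.eval 0 := by
      refine MvPolynomial.ringHom_ext (fun c => ?_) (fun i => ?_)
      · have h1 : lin v (MvPolynomial.C c) = C (MvPolynomial.C c) := by
          rw [← MvPolynomial.algebraMap_eq, AlgEquiv.commutes]; rfl
        change MvPolynomial.eval 0 (Polynomial.constantCoeff (lin v (MvPolynomial.C c))) = _
        rw [h1]
        simp
      · refine Fin.cases ?_ (fun j => ?_) i
        · change MvPolynomial.eval 0 (Polynomial.constantCoeff (lin v (MvPolynomial.X 0))) = _
          rw [lin_X_zero]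
          simp
        · change MvPolynomial.eval 0 (Polynomial.constantCoeff (lin v (MvPolynomial.X j.succ))) = _
          rw [lin_X_succ]
          simp
    exact DFunLike.congr_fun hf p

/-- Coordinates adapted to a transversal line through `u`. -/
theorem exists_coord {P : MvPolynomial (Fin (m + 1)) K} (hP : Squarefree P) (u : Fin (m + 1) → K)
    (h : MvPolynomial.eval u P ≠ 0 ∨ ∃ i, MvPolynomial.eval u (MvPolynomial.pderiv i P) ≠ 0) :
    ∃ (e : MvPolynomial (Fin (m + 1)) K ≃ₐ[K] (MvPolynomial (Fin m) K)[X]) (Δ : MvPolynomial (Fin m) K),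
      MvPolynomial.eval 0 Δ ≠ 0 ∧ (e P).leadingCoeff ∣ Δ ∧
      C Δ ∈ Ideal.span {e P, derivative (e P)} ∧
      ∀ p, MvPolynomial.eval 0 ((e p).coeff 0) = MvPolynomial.eval u p := by
  have hP' : Squarefree (trans u P) := by
    intro q hq
    have h1 := hP ((trans u).symm q) (by
      have := map_dvd (trans u).symm hq
      rwa [map_mul, AlgEquiv.symm_apply_apply] at this)
    have := h1.map (trans u)
    rwa [AlgEquiv.apply_symm_apply] at this
  have hpd : ∀ i, MvPolynomial.eval 0 (MvPolynomial.pderiv i (trans u P))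
      = MvPolynomial.eval u (MvPolynomial.pderiv i P) := by
    intro i
    have h1 : MvPolynomial.pderiv i (trans u P) = trans u (MvPolynomial.pderiv i P) :=
      pderiv_trans u i P
    rw [h1, eval_trans, zero_add]
  obtain ⟨e, Δ, h1, h2, h3, h4⟩ := exists_coord₀ hP' (by
    rw [eval_trans, zero_add]
    simp only [hpd]
    exact h)
  refine ⟨(trans u).trans e, Δ, h1, h2, h3, fun p => ?_⟩
  have := h4 (trans u p)
  rw [eval_trans, zero_add] at this
  exact this

end main

end Groth.Agent.An.H887.Coord
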