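import Groth.Agent.An.H887.LD
import Groth.Agent.An.H866.T4
import Groth.Agent.An.H886.Counit
import Groth.Agent.An.H885.EpsUnit

/-!
# Classes of degree one with finite locally constant coefficients die étale-locally

* `transfer`: if `G` and `G'` are isomorphic over `A`, classes of `G` over `A` are controlled by
  classes of `G'` over `A`;
* `exists_etale_const`: by Riemann's existence theorem a finite locally constant `G` is constant
  étale-locally;
* `LDat_one`.
-/

set_option autoImplicit false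

open CategoryTheory CategoryTheory.Limits AlgebraicGeometry Opposite CategoryTheory.Abelian
open TopologicalSpace Topology

noncomputable section

namespace Groth.Agent.An.H887.D1

open Groth.Agent.Proet.ZU Groth.Agent.An.H888.ClsH Groth.Agent.An.H888.ClsLoc
open Groth.Agent.An.H888.Dies Groth.Agent.An.H885 Groth.Agent.An.H885.ClConst
open Groth.Agent.An.H887.LD

section Transfer

variable {T : Type} [TopologicalSpace T] (A : An.Cl T)

/-- The restriction of a map of sheaves over `A`. -/
def restrHom {G G' : An.Cl.Ab T} (e : G.over A ⟶ G'.over A) : (restr A).obj G ⟶ (restr A).obj G' :=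
  ⟨{ app := fun B => e.hom.app (op ((toOver A).obj B.unop))
     naturality := fun _ _ f => e.hom.naturality ((toOver A).map f.unop).op }⟩

/-- Isomorphic restrictions. -/
def restrIso {G G' : An.Cl.Ab T} (e : G.over A ≅ G'.over A) : (restr A).obj G ≅ (restr A).obj G' where
  hom := restrHom A e.hom
  inv := restrHom A e.inv
  hom_inv_id := by
    ext B x
    have h1 := congrArg (fun z => z.hom.app (op ((toOver A).obj (B.unop)))) e.hom_inv_id
    exact congrArg (fun z => z.hom x) h1
  inv_hom_id := by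
    ext B x
    have h1 := congrArg (fun z => z.hom.app (op ((toOver A).obj (B.unop)))) e.inv_hom_id
    exact congrArg (fun z => z.hom x) h1

/-- A class over `A.E` as a class over `A`. -/
theorem exists_extend {G : An.Cl.Ab T} {q : ℕ} (y : HA (An.Cl.self A.E) ((restr A).obj G) q) :
    ∃ x : HA A G q, ∀ B : An.Cl A.E, ∀ hB : Continuous B.p,
      res (⟨B.p, hB, fun _ => rfl⟩ : (loc A).obj B ⟶ A) x = 0 → res (toSelf B) y = 0 := by
  let i : (loc A).obj (An.Cl.self A.E) ⟶ A := ⟨id, continuous_id, fun _ => rfl⟩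
  let j : A ⟶ (loc A).obj (An.Cl.self A.E) := ⟨id, continuous_id, fun _ => rfl⟩
  refine ⟨res j (locIso A (An.Cl.self A.E) G q y), fun B hB h => ?_⟩
  apply (locIso A _ G q).injective
  rw [locIso_res, map_zero]
  rw [res_res] at h
  exact h

/-- Classes of `G` over `A` are controlled by classes of a sheaf isomorphic to `G` over `A`. -/
theorem transfer {G G' : An.Cl.Ab T} (e : G.over A ≅ G'.over A) {q : ℕ} (x : HA A G q) :
    ∃ x' : HA A G' q, ∀ (B : An.Cl T) (g : B ⟶ A), res g x' = 0 → res g x = 0 := by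
  obtain ⟨y, hy⟩ := exists_restr A x
  obtain ⟨x', hx'⟩ := exists_extend A (G := G') (y.comp (Ext.mk₀ (restrIso A e).hom) (add_zero q))
  refine ⟨x', fun B g hg => ?_⟩
  let B' : An.Cl A.E := ⟨B.E, g.toFun, ClPoint.isLocalHomeomorph_toFun g⟩
  let ib : (loc A).obj B' ⟶ B := ⟨id, continuous_id, fun d => (g.over d).symm⟩
  let jb : B ⟶ (loc A).obj B' := ⟨id, continuous_id, fun d => g.over d⟩
  have h1 : res (⟨B'.p, g.continuous, fun _ => rfl⟩ : (loc A).obj B' ⟶ A) x' = 0 := by
    have h2 : (⟨B'.p, g.continuous, fun _ => rfl⟩ : (loc A).obj B' ⟶ A) = ib ≫ g := rfl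
    rw [h2, ← res_res, hg, res_zero]
  have h3 := hx' B' g.continuous h1
  rw [res_comp_ext] at h3
  have h4 : res (toSelf B') y = 0 := by
    have h5 := congrArg (fun z => z.comp (Ext.mk₀ (restrIso A e).inv) (add_zero q)) h3
    rw [Ext.comp_assoc_of_third_deg_zero, Ext.mk₀_comp_mk₀, Iso.hom_inv_id, Ext.comp_mk₀_id,
      Ext.zero_comp] at h5
    exact h5
  have h6 := hy B' h4 g.continuous
  have h7 : g = jb ≫ (⟨B'.p, g.continuous, fun _ => rfl⟩ : (loc A).obj B' ⟶ A) := rfl
  rw [h7, ← res_res, h6, res_zero]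

end Transfer

section Scheme

variable {X : Scheme.{0}} [X.Over An.SC] [LocallyOfFiniteType (X ↘ An.SC)] [Fact An.EtaleLH]
  [An.EpsCont X]

/-- A finite locally constant sheaf is constant étale-locally. -/
theorem exists_etale_const (hR : H886.Algebraic.RET X) {G : An.Cl.Ab (An.Pts X)}
    (hG : An.Cl.IsFiniteLocallyConstant G) (t : An.Pts X) :
    ∃ (U : X.Etale) (b : An.Pts U.left) (M : Type) (_ : AddCommGroup M) (_ : Finite M),
      ((An.eps X).obj U).p b = t ∧
      Nonempty (G.over ((An.eps X).obj U) ≅ (An.Cl.const (An.Pts X) M).over ((An.eps X).obj U)) := by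
  obtain ⟨h1, h2⟩ := H886.Counit.counit_of hR (fun F hF =>
    ⟨EpsUnit.isIso_unit X F (EpsUnit.isLC_of_isFiniteLocallyConstant X F hF),
      EpsUnit.isFiniteLocallyConstant_epsPull X F hF⟩) G hG
  rw [EtpbcA.FLC.flc_iff] at h2
  obtain ⟨U, u, M, _, _, φ, hu, hφ⟩ := h2 t.pt
  obtain ⟨l, hl, -⟩ := Scheme.exists_fac_of_etale_of_isSepClosed (Ω := ℂ) (X := U.left) (S := X)
    U.hom t.1 u (hu.trans rfl)
  refine ⟨U, ⟨l, by
    change l ≫ U.hom ≫ (X ↘ An.SC) = 𝟙 _
    rw [← Category.assoc, hl]
    exact t.2⟩, M, inferInstance, inferInstance, Subtype.ext hl, ?_⟩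
  rw [nonempty_iso_iff]
  exact ⟨_, (EpsUnit.isConstVia_eta X _ hφ).map_iso (asIso ((An.epsAdj X).counit.app G))⟩

/-- **Degree one.** -/
theorem LDat_one (hR : H886.Algebraic.RET X)
    (hRE : ∀ (U : X.Etale) (E : Type) [TopologicalSpace E] (p : E → An.Pts U.left),
      IsCoveringMap p → (∀ x : An.Pts U.left, (p ⁻¹' {x}).Finite) → H866.AlgCov.IsAlg p)
    {G : An.Cl.Ab (An.Pts X)} (hG : An.Cl.IsFiniteLocallyConstant G) (t : An.Pts X) :
    LDat G 1 t := by
  obtain ⟨U, b, M, _, _, hb, ⟨e⟩⟩ := exists_etale_const hR hG t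
  refine LDat_of_diesAt U b hb (fun x => ?_)
  obtain ⟨x', hx'⟩ := transfer _ e x
  obtain ⟨V, g, b', hb', h⟩ := H866.T4.diesAt_one (hRE U) M x' b
  exact ⟨V, g, b', hb', hx' _ _ h⟩

end Scheme

end Groth.Agent.An.H887.D1
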