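import Groth.Agent.An.H886.Space
import Groth.Agent.An.H888.ClsH
import Mathlib.Topology.Homotopy.Lifting

/-!
# Degree zero classes of a finite locally constant sheaf over simply connected objects

`bijective_res`: restriction between simply connected, locally path connected objects is bijective on
classes of degree `0`; `finite_HA`: these classes form a finite group.
-/

set_option autoImplicit false

open CategoryTheory TopologicalSpace Topology Opposite CategoryTheory.Abelian

noncomputable section

namespace Groth.Agent.An.H887.FLC0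

open _root_.An Groth.Agent.An.H886 EtSpace LocConst Groth.Agent.Proet.ZU Groth.Agent.An.H888.ClsH

variable {T : Type} [TopologicalSpace T]

theorem hom_bijective {E A : Cl T} (hE : IsCoveringMap E.p) [SimplyConnectedSpace A.E]
    [LocallyPathConnectedSpace A.E] (a₀ : A.E) :
    Function.Bijective (fun c : A ⟶ E => (⟨c.toFun a₀, c.over a₀⟩ : {e : E.E // E.p e = A.p a₀})) := by
  have key := fun (e₀ : E.E) (he : E.p e₀ = A.p a₀) =>
    hE.existsUnique_continuousMap_lifts (⟨A.p, A.lh.continuous⟩ : C(A.E, T)) a₀ e₀ he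
  constructor
  · intro c c' h
    have h1 : c.toFun a₀ = c'.toFun a₀ := congrArg Subtype.val h
    have h2 := (key (c.toFun a₀) (c.over a₀)).unique
      (y₁ := ⟨c.toFun, c.continuous⟩) (y₂ := ⟨c'.toFun, c'.continuous⟩)
      ⟨rfl, funext c.over⟩ ⟨h1.symm, funext c'.over⟩
    exact Cl.hom_ext (congrArg DFunLike.coe h2)
  · rintro ⟨e, he⟩
    obtain ⟨F, ⟨h1, h2⟩, -⟩ := key e he
    exact ⟨⟨F, F.continuous, fun a => congrFun h2 a⟩, Subtype.ext h1⟩

theorem comp_bijective {E A A' : Cl T} (hE : IsCoveringMap E.p) [SimplyConnectedSpace A.E]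
    [LocallyPathConnectedSpace A.E] [SimplyConnectedSpace A'.E] [LocallyPathConnectedSpace A'.E]
    (g : A' ⟶ A) : Function.Bijective (fun c : A ⟶ E => g ≫ c) := by
  obtain ⟨a'⟩ : Nonempty A'.E := inferInstance
  have h1 := hom_bijective hE (g.toFun a')
  have h2 := hom_bijective hE a'
  have h3 : Function.Bijective (fun e : {e : E.E // E.p e = A.p (g.toFun a')} =>
      (⟨e.1, e.2.trans (g.over a')⟩ : {e : E.E // E.p e = A'.p a'})) :=
    ⟨fun a b h => Subtype.ext (congrArg (fun x : {e : E.E // E.p e = A'.p a'} => x.1) h),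
      fun b => ⟨⟨b.1, b.2.trans (g.over a').symm⟩, rfl⟩⟩
  exact (Function.Bijective.of_comp_iff' h2 _).1 (h3.comp h1)

variable {G : Cl.Ab T} (hG : IsFLC G)

include hG in
theorem sect_bijective {A A' : Cl T} [SimplyConnectedSpace A.E]
    [LocallyPathConnectedSpace A.E] [SimplyConnectedSpace A'.E] [LocallyPathConnectedSpace A'.E]
    (g : A' ⟶ A) : Function.Bijective (EtSpace.res G g) := by
  obtain ⟨E, t, hE, -, h1, h2⟩ := Space.exists_covering_of_isFLC hG
  have h3 : ∀ B : Cl T, Function.Bijective (fun c : B ⟶ E => EtSpace.res G c t) :=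
    fun B => ⟨fun c c' h => h2 B c c' h, fun s => h1 B s⟩
  refine (Function.Bijective.of_comp_iff _ (h3 A)).1 ?_
  have h4 : (EtSpace.res G g ∘ fun c : A ⟶ E => EtSpace.res G c t) =
      (fun c : A' ⟶ E => EtSpace.res G c t) ∘ (fun c : A ⟶ E => g ≫ c) := by
    funext c
    exact (EtSpace.res_comp _ _ _ _).symm
  rw [h4]
  exact (h3 A').comp (comp_bijective hE g)

include hG in
theorem finite_sect {A : Cl T} [SimplyConnectedSpace A.E] [LocallyPathConnectedSpace A.E] :
    Finite (Cl.sect G A) := by
  obtain ⟨E, t, hE, hfin, h1, h2⟩ := Space.exists_covering_of_isFLC hG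
  have h3 : Function.Bijective (fun c : A ⟶ E => EtSpace.res G c t) :=
    ⟨fun c c' h => h2 A c c' h, fun s => h1 A s⟩
  obtain ⟨a⟩ : Nonempty A.E := inferInstance
  have h4 : Finite {e : E.E // E.p e = A.p a} := hfin (A.p a)
  have h5 : Finite (A ⟶ E) := Finite.of_injective _ (hom_bijective hE a).injective
  exact Finite.of_surjective _ h3.surjective

/-- Degree zero classes are sections. -/
def sectEquiv (G : Cl.Ab T) (A : Cl T) : Cl.sect G A ≃ HA A G 0 :=
  ((ev (Cl.topology T) A G).symm.toEquiv).trans (Equiv.ofBijective _ (Ext.mk₀_bijective _ _))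

theorem res_sectEquiv (G : Cl.Ab T) {A A' : Cl T} (g : A' ⟶ A) (s : Cl.sect G A) :
    H888.ClsH.res g (sectEquiv G A s) = sectEquiv G A' (EtSpace.res G g s) :=
  res_mk₀_ev g s

include hG in
theorem bijective_res {A A' : Cl T} [SimplyConnectedSpace A.E]
    [LocallyPathConnectedSpace A.E] [SimplyConnectedSpace A'.E] [LocallyPathConnectedSpace A'.E]
    (g : A' ⟶ A) : Function.Bijective (H888.ClsH.res g : HA A G 0 → HA A' G 0) := by
  refine (Function.Bijective.of_comp_iff _ (sectEquiv G A).bijective).1 ?_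
  have h4 : ((H888.ClsH.res g : HA A G 0 → HA A' G 0) ∘ sectEquiv G A) =
      (sectEquiv G A') ∘ (EtSpace.res G g) := funext (res_sectEquiv G g)
  rw [h4]
  exact (sectEquiv G A').bijective.comp (sect_bijective hG g)

include hG in
theorem finite_HA {A : Cl T} [SimplyConnectedSpace A.E] [LocallyPathConnectedSpace A.E] :
    Finite (HA A G 0) :=
  have := finite_sect hG (A := A)
  Finite.of_equiv _ (sectEquiv G A)

end Groth.Agent.An.H887.FLC0
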