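import Groth.Agent.An.H887.Sheets
import Groth.Agent.An.H887.Rect
import Mathlib.Analysis.LocallyConvex.WithSeminorms

/-!
# Good covers of finite coverings of `C × (ℂ ∖ F)`
-/

set_option autoImplicit false

open Topology

namespace Groth.Agent.An.H887.GC

open Groth.Agent.An.H887.Sheets Groth.Agent.An.H887.Rect

/-- a complex number whose multiples separate a finite set by imaginary parts -/
theorem exists_rot (F : Finset ℂ) : ∃ ω : ℂ, ω ≠ 0 ∧ Set.InjOn (fun z : ℂ => (ω * z).im) (F : Set ℂ) := by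
  classical
  let B : Finset ℝ := (F ×ˢ F).image fun p => -(p.1 - p.2).im / (p.1 - p.2).re
  obtain ⟨t, ht⟩ := Infinite.exists_notMem_finset B
  refine ⟨⟨1, t⟩, fun h => by simpa using congrArg Complex.re h, ?_⟩
  intro a ha b hb hab
  by_contra hne
  have h1 : (a - b).im + t * (a - b).re = 0 := by
    have : (1 * a.im + t * a.re) = 1 * b.im + t * b.re := by
      simpa [Complex.mul_im] using hab
    simp only [Complex.sub_im, Complex.sub_re]
    linarith
  by_cases h2 : (a - b).re = 0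
  · rw [h2, mul_zero, add_zero] at h1
    exact hne (sub_eq_zero.mp (Complex.ext h2 h1))
  · apply ht
    refine Finset.mem_image.mpr ⟨(a, b), Finset.mem_product.mpr ⟨ha, hb⟩, ?_⟩
    rw [div_eq_iff h2]
    linarith

section

variable {X : Type*} [AddCommGroup X] [Module ℝ X] [TopologicalSpace X]
  [IsTopologicalAddGroup X] [ContinuousSMul ℝ X] [LocallyConvexSpace ℝ X] {E : Type} [TopologicalSpace E]
  {p : E → X} {O : Set X}

/-- sheets over a convex open set (possibly empty) -/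
theorem sheets_over (cov : IsCoveringMapOn p O) (hfin : ∀ x, (p ⁻¹' {x}).Finite) {N : Set X}
    (hN : Convex ℝ N) (ho : IsOpen N) (hNO : N ⊆ O) :
    ∃ (ι : Type) (_ : Finite ι) (W : ι → Set E), (∀ i, N.Nonempty ∧ IsSheet p N (W i)) ∧
      Pairwise (Function.onFun Disjoint W) ∧ ⋃ i, W i = p ⁻¹' N := by
  rcases N.eq_empty_or_nonempty with h | ⟨n₀, hn₀⟩
  · subst h
    refine ⟨PEmpty, inferInstance, PEmpty.elim, fun i => i.elim, fun i => i.elim, ?_⟩
    simp
  · obtain ⟨h1, h2⟩ := convex_instances hN ho ⟨n₀, hn₀⟩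
    obtain ⟨W, hW1, hW2, hW3⟩ := exists_sheets cov hNO ⟨n₀, hn₀⟩
    have : Finite (p ⁻¹' {((⟨n₀, hn₀⟩ : N) : X)}) := hfin _
    exact ⟨_, this, W, fun i => ⟨⟨n₀, hn₀⟩, hW1 i⟩, hW2, hW3⟩

/-- sheets over a disjoint family of convex open sets -/
theorem sheets_family (cov : IsCoveringMapOn p O) (hfin : ∀ x, (p ⁻¹' {x}).Finite) {I : Type} [Finite I]
    (N : I → Set X) (hN : ∀ i, Convex ℝ (N i)) (ho : ∀ i, IsOpen (N i)) (hNO : ∀ i, N i ⊆ O)
    (hd : Pairwise (Function.onFun Disjoint N)) :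
    ∃ (ι : Type) (_ : Finite ι) (f : ι → I) (W : ι → Set E),
      (∀ i, (N (f i)).Nonempty ∧ IsSheet p (N (f i)) (W i)) ∧
      Pairwise (Function.onFun Disjoint W) ∧ ⋃ i, W i = p ⁻¹' (⋃ i, N i) := by
  choose ι hι W h1 h2 h3 using fun i => sheets_over cov hfin (hN i) (ho i) (hNO i)
  refine ⟨Σ i, ι i, inferInstance, Sigma.fst, fun s => W s.1 s.2, fun s => h1 s.1 s.2, ?_, ?_⟩
  · rintro ⟨i, s⟩ ⟨j, t⟩ hne
    by_cases hij : i = j
    · subst hij
      exact h2 i (fun h : s = t => hne (by subst h; rfl))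
    · rw [Function.onFun, Set.disjoint_left]
      intro e he he'
      have h4 := (h1 i s).2.subset_preimage he
      have h5 := (h1 j t).2.subset_preimage he'
      exact Set.disjoint_left.mp (hd hij) h4 h5
  · rw [Set.preimage_iUnion]
    ext e
    simp only [Set.mem_iUnion, Sigma.exists]
    constructor
    · rintro ⟨i, s, hs⟩
      exact ⟨i, (h1 i s).2.subset_preimage hs⟩
    · rintro ⟨i, hi⟩
      rw [← h3 i, Set.mem_iUnion] at hi
      exact ⟨i, hi⟩

end

/-- The scaling of the last coordinate. -/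
noncomputable def scale (m : ℕ) (ω : ℂ) (hω : ω ≠ 0) : (Fin m → ℂ) × ℂ ≃ₜ (Fin m → ℂ) × ℂ :=
  (Homeomorph.refl _).prodCongr (Homeomorph.mulLeft₀ ω hω)

/-- A set is empty or a sheet over `C ×` a nonempty rectangle. -/
def EmptyOrSheet {m : ℕ} {E : Type} [TopologicalSpace E] (q : E → (Fin m → ℂ) × ℂ)
    (C : Set (Fin m → ℂ)) (W : Set E) : Prop :=
  W = ∅ ∨ ∃ a b c d : EReal, (rect a b c d).Nonempty ∧ IsSheet q (C ×ˢ rect a b c d) W

/-- **Good covers.** -/
theorem exists_goodCover {m : ℕ} {C : Set (Fin m → ℂ)} (hC : IsOpen C) (hCc : Convex ℝ C)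
    (hne : C.Nonempty) (F : Finset ℂ) {E : Type} [TopologicalSpace E] (p : E → (Fin m → ℂ) × ℂ)
    (cov : IsCoveringMapOn p (C ×ˢ (F : Set ℂ)ᶜ)) (hp : ∀ e, p e ∈ C ×ˢ (F : Set ℂ)ᶜ)
    (hfin : ∀ x, (p ⁻¹' {x}).Finite) :
    ∃ (ω : ℂ) (hω : ω ≠ 0) (I J : Type) (_ : Finite I) (_ : Finite J) (U : I → Set E) (V : J → Set E),
      (∀ i, IsOpen (U i)) ∧ (∀ j, IsOpen (V j)) ∧
      Pairwise (Function.onFun Disjoint U) ∧ Pairwise (Function.onFun Disjoint V) ∧
      (⋃ i, U i) ∪ (⋃ j, V j) = Set.univ ∧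
      (∀ i, EmptyOrSheet (scale m ω hω ∘ p) C (U i)) ∧ (∀ j, EmptyOrSheet (scale m ω hω ∘ p) C (V j)) ∧
      ∀ i j, EmptyOrSheet (scale m ω hω ∘ p) C (U i ∩ V j) := by
  classical
  obtain ⟨ω, hω, hinj⟩ := exists_rot F
  let F' : Finset ℂ := F.image (ω * ·)
  have hF' : Set.InjOn Complex.im (F' : Set ℂ) := by
    intro a ha b hb hab
    obtain ⟨a', ha', rfl⟩ := Finset.mem_image.mp (Finset.mem_coe.mp ha)
    obtain ⟨b', hb', rfl⟩ := Finset.mem_image.mp (Finset.mem_coe.mp hb)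
    rw [hinj ha' hb' hab]
  obtain ⟨I, J, hI, hJ, P, Q, hP, hQ, hPd, hQd, hPQ⟩ := exists_families F' hF'
  set q : E → (Fin m → ℂ) × ℂ := scale m ω hω ∘ p with hq
  have hmem : ∀ z : ℂ, ω * z ∈ (F' : Set ℂ) ↔ z ∈ (F : Set ℂ) := by
    intro z
    constructor
    · intro h
      obtain ⟨a, ha, haz⟩ := Finset.mem_image.mp (Finset.mem_coe.mp h)
      have : a = z := mul_left_cancel₀ hω haz
      rw [← this]; exact ha
    · intro h
      exact Finset.mem_coe.mpr (Finset.mem_image.mpr ⟨z, h, rfl⟩)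
  have hO : (scale m ω hω).symm ⁻¹' (C ×ˢ (F : Set ℂ)ᶜ) = C ×ˢ (F' : Set ℂ)ᶜ := by
    ext x
    constructor
    · intro h
      refine ⟨h.1, fun h2 => h.2 ?_⟩
      rw [← hmem]
      have : ω * ((scale m ω hω).symm x).2 = x.2 :=
        congrArg Prod.snd ((scale m ω hω).apply_symm_apply x)
      rw [this]; exact h2
    · intro h
      refine ⟨h.1, fun h2 => h.2 ?_⟩
      rw [← hmem] at h2
      have : ω * ((scale m ω hω).symm x).2 = x.2 :=
        congrArg Prod.snd ((scale m ω hω).apply_symm_apply x)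
      rwa [this] at h2
  have covq : IsCoveringMapOn q (C ×ˢ (F' : Set ℂ)ᶜ) := by
    rw [← hO]
    exact cov.homeomorph_comp _
  have hfinq : ∀ x, (q ⁻¹' {x}).Finite := by
    intro x
    have : q ⁻¹' {x} = p ⁻¹' {(scale m ω hω).symm x} := by
      ext e
      simp only [hq, Set.mem_preimage, Function.comp_apply, Set.mem_singleton_iff]
      exact Equiv.eq_symm_apply (scale m ω hω).toEquiv |>.symm
    rw [this]; exact hfin _
  have hqmem : ∀ e, q e ∈ C ×ˢ (F' : Set ℂ)ᶜ := by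
    intro e
    refine ⟨(hp e).1, fun h => (hp e).2 ?_⟩
    rw [← hmem]; exact h
  have hlh : IsLocalHomeomorph q := by
    rw [isLocalHomeomorph_iff_isLocalHomeomorphOn_univ]
    have := covq.isLocalHomeomorphOn
    have h2 : q ⁻¹' (C ×ˢ (F' : Set ℂ)ᶜ) = Set.univ := Set.eq_univ_of_forall hqmem
    rwa [h2] at this
  have hsub : ∀ i, P i ⊆ (F' : Set ℂ)ᶜ := fun i => by
    rw [← hPQ]; exact Set.subset_union_of_subset_left (Set.subset_iUnion P i) _
  have hsubQ : ∀ j, Q j ⊆ (F' : Set ℂ)ᶜ := fun j => by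
    rw [← hPQ]; exact Set.subset_union_of_subset_right (Set.subset_iUnion Q j) _
  have hPc : ∀ i, Convex ℝ (P i) := fun i => by obtain ⟨a, b, c, d, h⟩ := hP i; rw [h]; exact convex_rect _ _ _ _
  have hQc : ∀ j, Convex ℝ (Q j) := fun j => by obtain ⟨a, b, c, d, h⟩ := hQ j; rw [h]; exact convex_rect _ _ _ _
  have hPo : ∀ i, IsOpen (P i) := fun i => by obtain ⟨a, b, c, d, h⟩ := hP i; rw [h]; exact isOpen_rect _ _ _ _
  have hQo : ∀ j, IsOpen (Q j) := fun j => by obtain ⟨a, b, c, d, h⟩ := hQ j; rw [h]; exact isOpen_rect _ _ _ _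
  obtain ⟨ι, hι, f, U, hU1, hU2, hU3⟩ := sheets_family covq hfinq (fun i => C ×ˢ P i)
    (fun i => hCc.prod (hPc i)) (fun i => hC.prod (hPo i))
    (fun i => Set.prod_mono_right (hsub i)) (fun i j hij => by
      rw [Function.onFun, Set.disjoint_left]
      intro x hx hx'
      exact Set.disjoint_left.mp (hPd hij) hx.2 hx'.2)
  obtain ⟨κ, hκ, g, V, hV1, hV2, hV3⟩ := sheets_family covq hfinq (fun j => C ×ˢ Q j)
    (fun j => hCc.prod (hQc j)) (fun j => hC.prod (hQo j))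
    (fun j => Set.prod_mono_right (hsubQ j)) (fun i j hij => by
      rw [Function.onFun, Set.disjoint_left]
      intro x hx hx'
      exact Set.disjoint_left.mp (hQd hij) hx.2 hx'.2)
  refine ⟨ω, hω, ι, κ, hι, hκ, U, V, fun i => (hU1 i).2.isOpen hlh (hC.prod (hPo _)),
    fun j => (hV1 j).2.isOpen hlh (hC.prod (hQo _)), hU2, hV2, ?_, ?_, ?_, ?_⟩
  · rw [hU3, hV3, ← Set.preimage_union]
    refine Set.eq_univ_of_forall fun e => ?_
    have h1 := hqmem e
    rw [← hPQ] at h1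
    rcases h1.2 with h | h
    · left
      obtain ⟨i, hi⟩ := Set.mem_iUnion.mp h
      exact Set.mem_iUnion.mpr ⟨i, h1.1, hi⟩
    · right
      obtain ⟨i, hi⟩ := Set.mem_iUnion.mp h
      exact Set.mem_iUnion.mpr ⟨i, h1.1, hi⟩
  · intro i
    right
    obtain ⟨a, b, c, d, h⟩ := hP (f i)
    have h1 := hU1 i
    rw [h] at h1
    exact ⟨a, b, c, d, h1.1.snd, h1.2⟩
  · intro j
    right
    obtain ⟨a, b, c, d, h⟩ := hQ (g j)
    have h1 := hV1 j
    rw [h] at h1
    exact ⟨a, b, c, d, h1.1.snd, h1.2⟩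
  · intro i j
    rcases (P (f i) ∩ Q (g j)).eq_empty_or_nonempty with h0 | h0
    · left
      rw [← Set.not_nonempty_iff_eq_empty]
      rintro ⟨e, he, he'⟩
      have h1 := (hU1 i).2.subset_preimage he
      have h2 := (hV1 j).2.subset_preimage he'
      have : (q e).2 ∈ P (f i) ∩ Q (g j) := ⟨h1.2, h2.2⟩
      rw [h0] at this
      exact this
    · have heq : (C ×ˢ P (f i)) ∩ (C ×ˢ Q (g j)) = C ×ˢ (P (f i) ∩ Q (g j)) := by
        rw [Set.prod_inter_prod, Set.inter_self]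
      have hcv : Convex ℝ ((C ×ˢ P (f i)) ∩ (C ×ˢ Q (g j))) :=
        (hCc.prod (hPc _)).inter (hCc.prod (hQc _))
      have hop : IsOpen ((C ×ˢ P (f i)) ∩ (C ×ˢ Q (g j))) :=
        (hC.prod (hPo _)).inter (hC.prod (hQo _))
      have hnn : ((C ×ˢ P (f i)) ∩ (C ×ˢ Q (g j))).Nonempty := by
        rw [heq]; exact hne.prod h0
      obtain ⟨i1, i2⟩ := convex_instances hcv hop hnn
      rcases inter_eq covq (hU1 i).2 (hV1 j).2 (Set.prod_mono_right (hsub (f i))) with h | h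
      · exact Or.inl h
      · right
        rw [heq] at h
        obtain ⟨a, b, c, d, h1⟩ := hP (f i)
        obtain ⟨a', b', c', d', h2⟩ := hQ (g j)
        rw [h1, h2, rect_inter] at h h0
        exact ⟨_, _, _, _, h0, h⟩

end Groth.Agent.An.H887.GC
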