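import Mathlib.RingTheory.Etale.StandardEtale
import Mathlib.RingTheory.Localization.Away.Basic
import Mathlib.RingTheory.AdjoinRoot

/-!
# The universal property of `(W / P)[1/f]`
-/

set_option autoImplicit false

open Polynomial

universe u v

namespace Groth.Agent.An.H887.Pres

/-- `φ : W → C` has the universal property of `W → (W / P)[1/f]` (tested on rings in the universe of `C`). -/
structure IsPres {W : Type v} [CommRing W] {C : Type u} [CommRing C] (φ : W →+* C) (P f : W) : Prop where
  zero : φ P = 0
  unit : IsUnit (φ f)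
  lift : ∀ (T : Type u) [CommRing T] (χ : W →+* T), χ P = 0 → IsUnit (χ f) →
    ∃ χ' : C →+* T, χ'.comp φ = χ
  ext : ∀ (T : Type u) [CommRing T] (a b : C →+* T), a.comp φ = b.comp φ → a = b

variable {W : Type v} [CommRing W] {C C' : Type u} [CommRing C] [CommRing C']

/-- uniqueness -/
theorem IsPres.exists_equiv {φ : W →+* C} {φ' : W →+* C'} {P f : W} (h : IsPres φ P f)
    (h' : IsPres φ' P f) : ∃ e : C ≃+* C', e.toRingHom.comp φ = φ' := by
  obtain ⟨a, ha⟩ := h.lift C' φ' h'.zero h'.unit
  obtain ⟨b, hb⟩ := h'.lift C φ h.zero h.unit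
  have h1 : b.comp a = RingHom.id C := h.ext _ _ _ (by
    rw [RingHom.comp_assoc, ha, hb, RingHom.id_comp])
  have h2 : a.comp b = RingHom.id C' := h'.ext _ _ _ (by
    rw [RingHom.comp_assoc, hb, ha, RingHom.id_comp])
  exact ⟨RingEquiv.ofRingHom a b h2 h1, ha⟩

/-- changing `f` -/
theorem IsPres.of_dvd_pow {φ : W →+* C} {P f g : W} (h : IsPres φ P f) (k l : ℕ)
    (h1 : f ∣ g ^ k) (h2 : g ∣ f ^ l) : IsPres φ P g where
  zero := h.zero
  unit := by
    have : φ g ∣ φ f ^ l := by rw [← map_pow]; exact map_dvd φ h2
    exact isUnit_of_dvd_unit this (h.unit.pow l)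
  lift T _ χ hP hg := h.lift T χ hP (by
    have : χ f ∣ χ g ^ k := by rw [← map_pow]; exact map_dvd χ h1
    exact isUnit_of_dvd_unit this (hg.pow k))
  ext := h.ext

/-- changing `P` by an associated element -/
theorem IsPres.of_associated {φ : W →+* C} {P Q f : W} (h : IsPres φ P f) (hPQ : Associated P Q) :
    IsPres φ Q f where
  zero := by
    obtain ⟨c, rfl⟩ := hPQ
    rw [map_mul, h.zero, zero_mul]
  unit := h.unit
  lift T _ χ hQ hf := h.lift T χ (by
    obtain ⟨c, rfl⟩ := hPQ.symm
    rw [map_mul, hQ, zero_mul]) hf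
  ext := h.ext

/-- composing with an isomorphism at the source -/
theorem IsPres.comp_equiv {W' : Type*} [CommRing W'] {φ : W →+* C} {P f : W} (h : IsPres φ P f)
    (e : W' ≃+* W) : IsPres (φ.comp e.toRingHom) (e.symm P) (e.symm f) where
  zero := by
    change φ (e (e.symm P)) = 0
    rw [e.apply_symm_apply]; exact h.zero
  unit := by
    change IsUnit (φ (e (e.symm f)))
    rw [e.apply_symm_apply]; exact h.unit
  lift T _ χ hP hf := by
    obtain ⟨χ', hχ'⟩ := h.lift T (χ.comp e.symm.toRingHom) hP hf
    refine ⟨χ', ?_⟩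
    rw [← RingHom.comp_assoc, hχ']
    ext w
    change χ (e.symm (e w)) = χ w
    rw [e.symm_apply_apply]
  ext T _ a b hab := h.ext T a b (by
    ext w
    have := RingHom.congr_fun hab (e.symm w)
    change a (φ (e (e.symm w))) = b (φ (e (e.symm w))) at this
    rwa [e.apply_symm_apply] at this)

/-- localising and replacing `P₁ Q` by `P₁` -/
theorem IsPres.localize {φ : W →+* C} {P Q f : W} (h : IsPres φ (P * Q) f) (g : W)
    {L : Type u} [CommRing L] [Algebra C L] [IsLocalization.Away (φ (Q * g)) L] :
    IsPres ((algebraMap C L).comp φ) P (f * (Q * g)) where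
  zero := by
    have h1 : IsUnit (algebraMap C L (φ (Q * g))) := IsLocalization.Away.algebraMap_isUnit _
    have h2 : algebraMap C L (φ P) * algebraMap C L (φ (Q * g)) = 0 := by
      rw [← map_mul, ← map_mul, ← mul_assoc, map_mul, h.zero, zero_mul, map_zero]
    exact (h1.mul_left_eq_zero).mp h2
  unit := by
    change IsUnit (algebraMap C L (φ (f * (Q * g))))
    rw [map_mul, map_mul]
    exact (h.unit.map _).mul (IsLocalization.Away.algebraMap_isUnit _)
  lift T _ χ hP hf := by
    rw [map_mul] at hf
    obtain ⟨χ', hχ'⟩ := h.lift T χ (by rw [map_mul, hP, zero_mul]) (isUnit_of_mul_isUnit_left hf)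
    have h3 : IsUnit (χ' (φ (Q * g))) := by
      change IsUnit ((χ'.comp φ) (Q * g))
      rw [hχ']; exact isUnit_of_mul_isUnit_right hf
    refine ⟨IsLocalization.Away.lift (φ (Q * g)) h3, ?_⟩
    rw [← RingHom.comp_assoc, IsLocalization.Away.lift_comp, hχ']
  ext T _ a b hab := by
    refine IsLocalization.ringHom_ext (Submonoid.powers (φ (Q * g))) ?_
    exact h.ext T _ _ (by rw [RingHom.comp_assoc, RingHom.comp_assoc]; exact hab)

/-- the standard etale algebra -/
theorem isPres_standardEtale {R : Type u} [CommRing R] {S : Type u} [CommRing S] [Algebra R S]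
    (P : StandardEtalePresentation R S) :
    IsPres (Polynomial.aeval (R := R) P.x).toRingHom P.f P.g where
  zero := P.hasMap.1
  unit := P.hasMap.2
  lift T _ χ hP hg := by
    let : Algebra R T := (χ.comp Polynomial.C).toAlgebra
    have hχ : ∀ p : R[X], Polynomial.aeval (χ X) p = χ p := by
      intro p
      have : (Polynomial.aeval (χ X) : R[X] →ₐ[R] T).toRingHom = χ := by
        ext
        · simp [RingHom.algebraMap_toAlgebra]
        · simp
      exact RingHom.congr_fun this p
    have hm : P.HasMap (χ X) := ⟨by rw [hχ]; exact hP, by rw [hχ]; exact hg⟩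
    refine ⟨((P.P.lift (χ X) hm).comp P.equivRing.toAlgHom).toRingHom, ?_⟩
    ext r
    · simp [RingHom.algebraMap_toAlgebra]
    · simp
  ext T _ a b hab := by
    let : Algebra R T := (a.comp (algebraMap R S)).toAlgebra
    have h1 : b.comp (algebraMap R S) = a.comp (algebraMap R S) := by
      ext r
      have := RingHom.congr_fun hab (Polynomial.C r)
      simpa using this.symm
    let a' : S →ₐ[R] T := { a with commutes' := fun r => rfl }
    let b' : S →ₐ[R] T := { b with commutes' := fun r => RingHom.congr_fun h1 r }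
    have h2 : a'.comp P.equivRing.symm.toAlgHom = b'.comp P.equivRing.symm.toAlgHom := by
      apply StandardEtalePair.hom_ext
      have := RingHom.congr_fun hab Polynomial.X
      simpa [a', b'] using this
    have h3 : a' = b' := by
      ext s
      have := DFunLike.congr_fun h2 (P.equivRing s)
      simpa using this
    ext s
    exact DFunLike.congr_fun h3 s

/-- `R[X] → R_Δ[X] / D` for `D` associated to `Q` and coprime to `y` -/
theorem isPres_adjoinRoot {R : Type u} [CommRing R] (Δ : R) {L : Type u} [CommRing L] [Algebra R L]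
    [IsLocalization.Away Δ L] (Q y : R[X]) (D : L[X]) (hD : Associated D (Q.map (algebraMap R L)))
    (hy : IsCoprime D (y.map (algebraMap R L))) :
    IsPres ((AdjoinRoot.mk D).comp (Polynomial.mapRingHom (algebraMap R L))) Q (Polynomial.C Δ * y) where
  zero := by
    obtain ⟨c, hc⟩ := hD
    change AdjoinRoot.mk D (Q.map (algebraMap R L)) = 0
    rw [← hc, map_mul, AdjoinRoot.mk_self, zero_mul]
  unit := by
    change IsUnit (AdjoinRoot.mk D ((Polynomial.C Δ * y).map (algebraMap R L)))
    rw [Polynomial.map_mul, Polynomial.map_C, map_mul]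
    refine IsUnit.mul ?_ ?_
    · exact ((IsLocalization.Away.algebraMap_isUnit Δ).map Polynomial.C).map _
    · obtain ⟨a, b, hab⟩ := hy
      have := congrArg (AdjoinRoot.mk D) hab
      rw [map_add, map_mul, map_mul, AdjoinRoot.mk_self, mul_zero, zero_add, map_one] at this
      exact IsUnit.of_mul_eq_one _ ((mul_comm _ _).trans this)
  lift T _ χ hP hf := by
    rw [map_mul] at hf
    have hΔ : IsUnit ((χ.comp Polynomial.C) Δ) := isUnit_of_mul_isUnit_left hf
    let l : L →+* T := IsLocalization.Away.lift Δ hΔ
    have hl : l.comp (algebraMap R L) = χ.comp C := IsLocalization.Away.lift_comp Δ hΔ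
    let m : L[X] →+* T := Polynomial.eval₂RingHom l (χ X)
    have hm : m.comp (Polynomial.mapRingHom (algebraMap R L)) = χ := by
      ext r
      · have := RingHom.congr_fun hl r
        simpa [m] using this
      · simp [m]
    have hmD : m D = 0 := by
      obtain ⟨c, hc⟩ := hD.symm
      rw [← hc, map_mul]
      have : m (Q.map (algebraMap R L)) = χ Q := RingHom.congr_fun hm Q
      rw [this, hP, zero_mul]
    refine ⟨AdjoinRoot.lift l (χ X) hmD, ?_⟩
    rw [← RingHom.comp_assoc]
    have : (AdjoinRoot.lift l (χ X) hmD).comp (AdjoinRoot.mk D) = m := by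
      ext r
      · simp [m]
      · simp [m]
    rw [this, hm]
  ext T _ a b hab := by
    have h1 : a.comp (AdjoinRoot.mk D) = b.comp (AdjoinRoot.mk D) := by
      refine Polynomial.ringHom_ext' ?_ ?_
      · refine IsLocalization.ringHom_ext (Submonoid.powers Δ) ?_
        ext r
        have := RingHom.congr_fun hab (Polynomial.C r)
        simpa using this
      · have := RingHom.congr_fun hab X
        simpa using this
    ext z
    · exact RingHom.congr_fun h1 (Polynomial.C z)
    · exact RingHom.congr_fun h1 X

end Groth.Agent.An.H887.Pres
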