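import Groth.Agent.An.H887.Coord
import Groth.Agent.An.H887.Pres
import Groth.Agent.Flat2E.FinEtaleSpread
import Mathlib.RingTheory.Unramified.LocalStructure
import Mathlib.RingTheory.RingHom.Etale
import Mathlib.RingTheory.RingHom.Finite
import Mathlib.RingTheory.Polynomial.UniqueFactorization

/-!
# Generic projections: first step

An algebra etale over `K[y₁,…,y_n]` (char. 0) is, near a `K`-point, finite etale over a principal
open of `K[y₁,…,y_n]` for another choice of coordinates.
-/

set_option autoImplicit false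

open Polynomial

universe u

namespace Groth.Agent.An.H887.GenProj

open Groth.Agent.An.H887.Coord Groth.Agent.An.H887.Pres

variable {K : Type u} [Field K]

theorem finSuccEquiv_pderiv {n : ℕ} (p : MvPolynomial (Fin (n + 1)) K) :
    MvPolynomial.finSuccEquiv K n (MvPolynomial.pderiv 0 p)
      = derivative (MvPolynomial.finSuccEquiv K n p) := by
  induction p using MvPolynomial.induction_on with
  | C a =>
    have h1 : MvPolynomial.finSuccEquiv K n (MvPolynomial.C a) = C (MvPolynomial.C a) := by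
      rw [← MvPolynomial.algebraMap_eq, AlgEquiv.commutes]; rfl
    rw [h1, MvPolynomial.pderiv_C, map_zero, derivative_C]
  | add p q hp hq => rw [map_add, map_add, map_add, map_add, hp, hq]
  | mul_X p j hp =>
    have h2 : MvPolynomial.finSuccEquiv K n (MvPolynomial.pderiv 0 (MvPolynomial.X j))
        = derivative (MvPolynomial.finSuccEquiv K n (MvPolynomial.X j)) := by
      refine Fin.cases ?_ (fun i => ?_) j
      · rw [MvPolynomial.pderiv_X_self, MvPolynomial.finSuccEquiv_X_zero, derivative_X, map_one]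
      · rw [MvPolynomial.finSuccEquiv_X_succ, derivative_C,
          MvPolynomial.pderiv_X_of_ne (Fin.succ_ne_zero i), map_zero]
    rw [map_mul (MvPolynomial.finSuccEquiv K n), MvPolynomial.pderiv_mul, derivative_mul,
      map_add (MvPolynomial.finSuccEquiv K n), map_mul (MvPolynomial.finSuccEquiv K n),
      map_mul (MvPolynomial.finSuccEquiv K n), hp, h2]

/-- Isolating the irreducible factor through a simple zero `u` of `P`, for `P g` arbitrary with `g(u) ≠ 0`. -/
theorem exists_factor {n : ℕ} (P g : MvPolynomial (Fin n) K) (u : Fin n → K) (i : Fin n)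
    (hP : MvPolynomial.eval u P = 0) (hP' : MvPolynomial.eval u (MvPolynomial.pderiv i P) ≠ 0)
    (hg : MvPolynomial.eval u g ≠ 0) :
    ∃ P₁ Q y : MvPolynomial (Fin n) K, P = P₁ * Q ∧ Squarefree (P₁ * y) ∧
      MvPolynomial.eval u (MvPolynomial.pderiv i (P₁ * y)) ≠ 0 ∧ MvPolynomial.eval u Q ≠ 0 ∧
      y ∣ g * Q ∧ ∃ k, g * Q ∣ y ^ k := by
  classical
  have hP0 : P ≠ 0 := by rintro rfl; rw [map_zero, map_zero] at hP'; exact hP' rfl
  obtain ⟨f, hf, c, hc⟩ := UniqueFactorizationMonoid.exists_prime_factors P hP0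
  obtain ⟨p, hp, hpu⟩ : ∃ p ∈ f, MvPolynomial.eval u p = 0 := by
    have h1 : MvPolynomial.eval u f.prod = 0 := by
      have := hP
      rw [← hc, map_mul] at this
      have hcu : IsUnit (MvPolynomial.eval u (c : MvPolynomial (Fin n) K)) := c.isUnit.map _
      exact (hcu.mul_left_eq_zero).mp this
    rw [map_multiset_prod, Multiset.prod_eq_zero_iff, Multiset.mem_map] at h1
    exact h1
  obtain ⟨Q, hQ⟩ : p ∣ P := (Multiset.dvd_prod hp).trans ⟨c, hc.symm⟩
  have hd : MvPolynomial.eval u (MvPolynomial.pderiv i P)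
      = MvPolynomial.eval u (MvPolynomial.pderiv i p) * MvPolynomial.eval u Q := by
    rw [hQ, MvPolynomial.pderiv_mul, map_add, map_mul, map_mul, hpu, zero_mul, add_zero]
  rw [hd] at hP'
  have hQu : MvPolynomial.eval u Q ≠ 0 := right_ne_zero_of_mul hP'
  have hpd : MvPolynomial.eval u (MvPolynomial.pderiv i p) ≠ 0 := left_ne_zero_of_mul hP'
  have hgQ : MvPolynomial.eval u (g * Q) ≠ 0 := by rw [map_mul]; exact mul_ne_zero hg hQu
  have hgQ0 : g * Q ≠ 0 := by rintro h; rw [h, map_zero] at hgQ; exact hgQ rfl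
  obtain ⟨y, k, hy1, hy2, hy3⟩ := exists_squarefree_dvd_pow_of_ne_zero hgQ0
  have hyu : MvPolynomial.eval u y ≠ 0 := by
    intro h0
    obtain ⟨z, hz⟩ := hy2
    rw [hz, map_mul, h0, zero_mul] at hgQ
    exact hgQ rfl
  refine ⟨p, Q, y, hQ, ?_, ?_, hQu, hy2, k, hy3⟩
  · rw [squarefree_mul_iff]
    refine ⟨?_, (hf p hp).irreducible.squarefree, hy1⟩
    rw [(hf p hp).irreducible.isRelPrime_iff_not_dvd]
    rintro ⟨z, hz⟩
    rw [hz, map_mul, hpu, zero_mul] at hyu
    exact hyu rfl
  · rw [MvPolynomial.pderiv_mul, map_add, map_mul, map_mul, hpu, zero_mul, add_zero]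
    exact mul_ne_zero hpd hyu

/-- clearing the leading coefficient over a localization where it is invertible -/
theorem exists_monic {R L : Type u} [CommRing R] [IsDomain R] [CommRing L] [Algebra R L]
    (Q : R[X]) (hQ : IsUnit (algebraMap R L Q.leadingCoeff)) :
    ∃ D : L[X], D.Monic ∧ Associated D (Q.map (algebraMap R L)) := by
  nontriviality L
  obtain ⟨c, hc⟩ := hQ
  have hdeg : (Q.map (algebraMap R L)).natDegree = Q.natDegree :=
    natDegree_map_of_leadingCoeff_ne_zero _ (by rw [← hc]; exact c.ne_zero)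
  have hlc : (Q.map (algebraMap R L)).leadingCoeff = c := by
    rw [Polynomial.leadingCoeff, hdeg, coeff_map, ← hc.symm]
    rfl
  refine ⟨C (↑c⁻¹ : L) * Q.map (algebraMap R L), ?_, ?_⟩
  · rw [Monic, leadingCoeff_mul', leadingCoeff_C, hlc, Units.inv_mul]
    rw [leadingCoeff_C, hlc, Units.inv_mul]
    exact one_ne_zero
  · refine ⟨Units.map (C : L →+* L[X]).toMonoidHom c, ?_⟩
    change C (↑c⁻¹ : L) * Q.map (algebraMap R L) * C (c : L) = _
    rw [mul_right_comm, ← C_mul, Units.inv_mul, C_1, one_mul]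

/-- coprimality and separability over the localization, from the ideal membership of `Δ` -/
theorem isCoprime_of_mem {R L : Type u} [CommRing R] [CommRing L] [Algebra R L] (Δ : R)
    [IsLocalization.Away Δ L] (Q : R[X]) (h : C Δ ∈ Ideal.span {Q, derivative Q}) :
    (Q.map (algebraMap R L)).Separable := by
  rw [Ideal.mem_span_pair] at h
  obtain ⟨a, b, hab⟩ := h
  obtain ⟨c, hc⟩ : IsUnit (algebraMap R L Δ) := IsLocalization.Away.algebraMap_isUnit Δ
  refine ⟨C (↑c⁻¹ : L) * a.map (algebraMap R L), C (↑c⁻¹ : L) * b.map (algebraMap R L), ?_⟩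
  have h2 := congrArg (Polynomial.map (algebraMap R L)) hab
  rw [Polynomial.map_add, Polynomial.map_mul, Polynomial.map_mul, Polynomial.map_C, ← hc,
    ← derivative_map] at h2
  rw [mul_assoc, mul_assoc, ← mul_add, h2, ← C_mul, Units.inv_mul, C_1]

end Groth.Agent.An.H887.GenProj
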