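import Groth.Agent.An.H887.GenProj

/-!
# Generic projections: first step

An algebra etale over `K[y₁,…,y_n]` (char. 0) is, near a `K`-point, finite etale over a principal
open of `K[y₁,…,y_n]` for another choice of coordinates.
-/

set_option autoImplicit false

open Polynomial

universe u

namespace Groth.Agent.An.H887.GenProjB

open Groth.Agent.An.H887.Coord Groth.Agent.An.H887.Pres Groth.Agent.An.H887.GenProj

variable {K : Type u} [Field K] [CharZero K]

/-- First step for a standard etale algebra. -/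
theorem first_step_standard {n : ℕ} {A : Type u} [CommRing A]
    [Algebra K A] [Algebra (MvPolynomial (Fin n) K) A] [IsScalarTower K (MvPolynomial (Fin n) K) A]
    (S : StandardEtalePresentation (MvPolynomial (Fin n) K) A) (x : A →ₐ[K] K) :
    ∃ (a : A) (Δ : MvPolynomial (Fin n) K), x a ≠ 0 ∧ MvPolynomial.eval 0 Δ ≠ 0 ∧
      ∀ (L : Type u) [CommRing L] [Algebra A L] [IsLocalization.Away a L] (x' : L →+* K)
        (_ : x'.comp (algebraMap A L) = x.toRingHom),
        ∃ g : Localization.Away Δ →+* L, g.Finite ∧ g.Etale ∧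
          (∀ c : K, g (algebraMap (MvPolynomial (Fin n) K) _ (MvPolynomial.C c))
            = algebraMap A L (algebraMap K A c)) ∧
          ∀ r : MvPolynomial (Fin n) K, x' (g (algebraMap _ _ r)) = MvPolynomial.eval 0 r := by
  let R := MvPolynomial (Fin n) K
  let E := MvPolynomial.finSuccEquiv K n
  let ψ : MvPolynomial (Fin (n + 1)) K →+* A := (Polynomial.aeval (R := R) S.x).toRingHom.comp E.toRingEquiv.toRingHom
  have hψ : IsPres ψ (E.symm S.f) (E.symm S.g) := (isPres_standardEtale S).comp_equiv E.toRingEquiv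
  let u : Fin (n + 1) → K := Fin.cons (x S.x) (fun i => x (algebraMap R A (MvPolynomial.X i)))
  have hψC : ∀ c : K, ψ (MvPolynomial.C c) = algebraMap K A c := by
    intro c
    have h1 : E (MvPolynomial.C c) = C (MvPolynomial.C c) := by
      rw [← MvPolynomial.algebraMap_eq, AlgEquiv.commutes]; rfl
    change Polynomial.aeval S.x (E (MvPolynomial.C c)) = _
    rw [h1, aeval_C, ← MvPolynomial.algebraMap_eq, ← IsScalarTower.algebraMap_apply]
  have hu : ∀ w, x (ψ w) = MvPolynomial.eval u w := by
    have : x.toRingHom.comp ψ = MvPolynomial.eval u := by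
      refine MvPolynomial.ringHom_ext (fun c => ?_) (fun i => ?_)
      · change x (ψ (MvPolynomial.C c)) = _
        rw [hψC, AlgHom.commutes, MvPolynomial.eval_C]
        rfl
      · rw [MvPolynomial.eval_X]
        refine Fin.cases ?_ (fun j => ?_) i
        · change x (Polynomial.aeval S.x (E (MvPolynomial.X 0))) = _
          simp only [E]
          rw [MvPolynomial.finSuccEquiv_X_zero, aeval_X]
          rfl
        · change x (Polynomial.aeval S.x (E (MvPolynomial.X j.succ))) = _
          simp only [E]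
          rw [MvPolynomial.finSuccEquiv_X_succ, aeval_C]
          rfl
    exact fun w => RingHom.congr_fun this w
  have hP0 : MvPolynomial.eval u (E.symm S.f) = 0 := by rw [← hu, hψ.zero, map_zero]
  have hg0 : MvPolynomial.eval u (E.symm S.g) ≠ 0 := by
    rw [← hu]
    exact (hψ.unit.map x).ne_zero
  have hd0 : MvPolynomial.eval u (MvPolynomial.pderiv 0 (E.symm S.f)) ≠ 0 := by
    have h1 : MvPolynomial.pderiv 0 (E.symm S.f) = E.symm (derivative S.f) := by
      apply E.injective
      rw [AlgEquiv.apply_symm_apply, finSuccEquiv_pderiv]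
      change derivative (E (E.symm S.f)) = _
      rw [AlgEquiv.apply_symm_apply]
    obtain ⟨p₁, p₂, k, hk⟩ := S.cond
    have h2 := congrArg (fun p => MvPolynomial.eval u (E.symm p)) hk
    simp only [map_add, map_mul, map_pow] at h2
    rw [hP0, zero_mul, add_zero, ← h1] at h2
    intro h3
    rw [h3, zero_mul] at h2
    exact pow_ne_zero k hg0 h2.symm
  obtain ⟨P₁, Q, y, hPQ, hsq, hder, hQu, hy1, k, hy2⟩ :=
    exists_factor (E.symm S.f) (E.symm S.g) u 0 hP0 hd0 hg0
  obtain ⟨e, Δ, hΔ0, hΔ1, hΔ2, hΔ3⟩ := exists_coord hsq u (Or.inr ⟨0, hder⟩)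
  set s : MvPolynomial (Fin (n + 1)) K := e.symm (C Δ) with hs
  have hsu : MvPolynomial.eval u s = MvPolynomial.eval 0 Δ := by
    rw [← hΔ3, hs, AlgEquiv.apply_symm_apply, coeff_C_zero]
  refine ⟨ψ (Q * s), Δ, ?_, hΔ0, ?_⟩
  · rw [hu, map_mul, hsu]
    exact mul_ne_zero hQu hΔ0
  intro L _ _ _ x' hx'
  -- the universal property of `W → L`
  have h1 : IsPres ((algebraMap A L).comp ψ) P₁ (E.symm S.g * (Q * s)) := by
    rw [hPQ] at hψ
    exact hψ.localize s
  have h2 : IsPres ((algebraMap A L).comp ψ) P₁ (s * y) := by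
    refine h1.of_dvd_pow (k + 1) 1 ?_ ?_
    · have : E.symm S.g * (Q * s) = (E.symm S.g * Q) * s := by ring
      rw [this, mul_pow, mul_comm (s ^ (k + 1))]
      exact mul_dvd_mul (hy2.trans (pow_dvd_pow _ (Nat.le_succ k))) (dvd_pow_self s (Nat.succ_ne_zero k))
    · have : E.symm S.g * (Q * s) = s * (E.symm S.g * Q) := by ring
      rw [pow_one, this]
      exact mul_dvd_mul_left s hy1
  have h3 := h2.comp_equiv e.symm.toRingEquiv
  have h3' : IsPres (((algebraMap A L).comp ψ).comp e.symm.toRingEquiv.toRingHom) (e P₁) (C Δ * e y) := by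
    have h4 : e (s * y) = C Δ * e y := by rw [map_mul, hs, AlgEquiv.apply_symm_apply]
    rw [← h4]
    exact h3
  -- the monic polynomial
  let RΔ := Localization.Away Δ
  have hlc : (e (P₁ * y)).leadingCoeff = (e P₁).leadingCoeff * (e y).leadingCoeff := by
    rw [map_mul, leadingCoeff_mul]
  have hΔu : IsUnit (algebraMap R RΔ Δ) := IsLocalization.Away.algebraMap_isUnit Δ
  have hlc1 : IsUnit (algebraMap R RΔ (e P₁).leadingCoeff) := by
    refine isUnit_of_dvd_unit (map_dvd (algebraMap R RΔ) ?_) hΔu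
    exact (Dvd.intro _ hlc.symm).trans hΔ1
  obtain ⟨D, hDm, hD⟩ := exists_monic (e P₁) hlc1
  have hsep : ((e (P₁ * y)).map (algebraMap R RΔ)).Separable := isCoprime_of_mem Δ _ hΔ2
  rw [map_mul, Polynomial.map_mul] at hsep
  obtain ⟨c, hc⟩ := hD
  have hsepD : D.Separable := by
    have h5 : (D * (c : RΔ[X])).Separable := by rw [hc]; exact hsep.of_mul_left
    exact h5.of_mul_left
  have hcop : IsCoprime D ((e y).map (algebraMap R RΔ)) := by
    have h5 : IsCoprime ((e P₁).map (algebraMap R RΔ)) ((e y).map (algebraMap R RΔ)) := hsep.isCoprime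
    rw [← hc] at h5
    exact h5.of_mul_left_left
  have h4 := isPres_adjoinRoot Δ (L := RΔ) (e P₁) (e y) D ⟨c, hc⟩ hcop
  obtain ⟨ε, hε⟩ := h4.exists_equiv h3'
  have het : Algebra.Etale RΔ (AdjoinRoot D) := Flat2E.FinEtaleSpread.etale_adjoinRoot D hDm hsepD
  have hfin : Module.Finite RΔ (AdjoinRoot D) := hDm.finite_adjoinRoot
  have hgr : ∀ r : R, ε (algebraMap RΔ (AdjoinRoot D) (algebraMap R RΔ r))
      = algebraMap A L (ψ (e.symm (C r))) := by
    intro r
    have h5 := RingHom.congr_fun hε (C r)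
    simpa using h5
  refine ⟨ε.toRingHom.comp (algebraMap RΔ (AdjoinRoot D)), ?_, ?_, ?_, ?_⟩
  · exact RingHom.Finite.comp (RingHom.Finite.of_surjective _ ε.surjective)
      (RingHom.finite_algebraMap.mpr hfin)
  · exact RingHom.Etale.stableUnderComposition _ _ (RingHom.etale_algebraMap.mpr het)
      (RingHom.Etale.of_bijective ε.bijective)
  · intro c
    change ε (algebraMap RΔ (AdjoinRoot D) (algebraMap R RΔ (MvPolynomial.C c))) = _
    rw [hgr]
    have h6 : e.symm (C (MvPolynomial.C c)) = MvPolynomial.C c := by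
      rw [AlgEquiv.symm_apply_eq, ← MvPolynomial.algebraMap_eq, ← MvPolynomial.algebraMap_eq,
        AlgEquiv.commutes]
      rfl
    rw [h6, hψC]
  · intro r
    change x' (ε (algebraMap RΔ (AdjoinRoot D) (algebraMap R RΔ r))) = _
    rw [hgr]
    have h6 : x' (algebraMap A L (ψ (e.symm (C r)))) = x (ψ (e.symm (C r))) :=
      RingHom.congr_fun hx' _
    rw [h6, hu, ← hΔ3, AlgEquiv.apply_symm_apply, coeff_C_zero]

end Groth.Agent.An.H887.GenProjB
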