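import Groth.Agent.An.H888.Dies
import Groth.Agent.An.H888.ClsLoc
import Groth.Agent.An.H885.ClConst
import Groth.Agent.An.H886.EtSpace

/-!
# Étale localization of the local killing of classes

* `isFLC_restr`: the restriction of a finite locally constant sheaf to an object of the classical site;
* `LDat G q a`: the classes of degree `q` over `X(ℂ)` with values in `G` die on an étale neighbourhood
  of `a`;
* `diesAt_of_LDat`: `LDat` for the étale `U → X` and the restriction of `G` gives `DiesAt`;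
* `LDat_of_etale`: `LDat` descends along an étale neighbourhood of `a`.
-/

set_option autoImplicit false

open CategoryTheory CategoryTheory.Limits AlgebraicGeometry Opposite CategoryTheory.Abelian
open TopologicalSpace Topology

noncomputable section

namespace Groth.Agent.An.H887.LD

open Groth.Agent.Proet.ZU Groth.Agent.An.H888.ClsH Groth.Agent.An.H888.ClsLoc
open Groth.Agent.An.H888.Dies Groth.Agent.An.H885 Groth.Agent.An.H885.ClConst

section Restr

variable {T : Type} [TopologicalSpace T] (A : An.Cl T)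

theorem isConstVia_restr {M : Type*} [AddCommGroup M] {G : An.Cl.Ab T} {B : An.Cl A.E}
    {φ : M →+ An.Cl.sect G ((loc A).obj B)} (h : IsConstVia G ((loc A).obj B) φ) :
    IsConstVia ((restr A).obj G) B φ where
  inj C g c m hm := h.inj ((loc A).obj C) ((loc A).map g) c m hm
  surj C g c s := by
    obtain ⟨D, k, d, m, hd, e⟩ := h.surj ((loc A).obj C) ((loc A).map g) c s
    let D' : An.Cl A.E := ⟨D.E, C.p ∘ k.toFun, C.lh.comp (ClPoint.isLocalHomeomorph_toFun k)⟩
    let k' : D' ⟶ C := ⟨k.toFun, k.continuous, fun _ => rfl⟩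
    let i : (loc A).obj D' ⟶ D := ⟨id, continuous_id, fun d => (k.over d).symm⟩
    refine ⟨D', k', d, m, hd, ?_⟩
    have e1 : (loc A).map k' = i ≫ k := rfl
    have e2 : (loc A).map (k' ≫ g) = i ≫ k ≫ (loc A).map g := rfl
    have e3 : ClPoint.res G ((loc A).map k') s = ClPoint.res G ((loc A).map (k' ≫ g)) (φ m) := by
      rw [e1, e2, ClPoint.res_comp G k i, ClPoint.res_comp G (k ≫ (loc A).map g) i, e]
    exact e3

theorem isFLC_restr {G : An.Cl.Ab T} (hG : An.Cl.IsFiniteLocallyConstant G) :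
    An.Cl.IsFiniteLocallyConstant ((restr A).obj G) := by
  rw [isFiniteLocallyConstant_iff] at hG ⊢
  intro t
  obtain ⟨A₁, a₁, M, _, _, φ, ha, hφ⟩ := hG (A.p t)
  obtain ⟨C, g, g', c, h1, h2, -⟩ := H886.EtSpace.exists_common A A₁ t a₁ ha.symm
  let C' : An.Cl A.E := ⟨C.E, g.toFun, ClPoint.isLocalHomeomorph_toFun g⟩
  let i : (loc A).obj C' ⟶ C := ⟨id, continuous_id, fun d => (g.over d).symm⟩
  exact ⟨C', c, M, inferInstance, inferInstance, _, h1,
    isConstVia_restr A (hφ.res' (i ≫ g'))⟩

/-- The map to the terminal object. -/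
abbrev toSelf {T : Type} [TopologicalSpace T] (A : An.Cl T) : A ⟶ An.Cl.self T :=
  H886.EtSpace.toSelf A

/-- A class over `A` as a class over `A.E`. -/
theorem exists_restr {G : An.Cl.Ab T} {q : ℕ} (x : HA A G q) :
    ∃ y : HA (An.Cl.self A.E) ((restr A).obj G) q, ∀ B : An.Cl A.E, res (toSelf B) y = 0 →
      ∀ hB : Continuous B.p, res (⟨B.p, hB, fun _ => rfl⟩ : (loc A).obj B ⟶ A) x = 0 := by
  let i : (loc A).obj (An.Cl.self A.E) ⟶ A := ⟨id, continuous_id, fun _ => rfl⟩
  refine ⟨(locIso A (An.Cl.self A.E) G q).symm (res i x), fun B hB h => ?_⟩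
  have h1 := congrArg (locIso A _ G q) hB
  rw [locIso_res, AddEquiv.apply_symm_apply, map_zero, res_res] at h1
  exact h1

end Restr

section Scheme

variable {X : Scheme.{0}} [X.Over An.SC] [LocallyOfFiniteType (X ↘ An.SC)] [Fact An.EtaleLH]

/-- The classes of degree `q` over `X(ℂ)` with values in `G` die on an étale neighbourhood of `a`. -/
def LDat (G : An.Cl.Ab (An.Pts X)) (q : ℕ) (a : An.Pts X) : Prop :=
  ∀ x : HA (An.Cl.self (An.Pts X)) G q, ∃ (V : X.Etale) (b : An.Pts V.left),
    ((An.eps X).obj V).p b = a ∧ res (toSelf ((An.eps X).obj V)) x = 0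

omit [Fact An.EtaleLH] in
theorem lft_left (U : X.Etale) : LocallyOfFiniteType (U.left ↘ An.SC) := by
  have : Etale (U.left ↘ X) := U.prop
  change LocallyOfFiniteType ((U.left ↘ X) ≫ (X ↘ An.SC))
  infer_instance

attribute [local instance] lft_left

set_option backward.isDefEq.respectTransparency.types false in
/-- An étale `U.left`-scheme as an étale `X`-scheme over `U`. -/
theorem exists_etale (U : X.Etale) (V' : U.left.Etale) :
    ∃ (V : X.Etale) (k : V ⟶ U)
      (c : (An.eps X).obj V ⟶ (loc ((An.eps X).obj U)).obj ((An.eps U.left).obj V')),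
      (∀ y, (An.eps X).map k = c ≫ (⟨((An.eps U.left).obj V').p, y, fun _ => rfl⟩ :
        (loc ((An.eps X).obj U)).obj ((An.eps U.left).obj V') ⟶ (An.eps X).obj U)) ∧
      ∀ b' : An.Pts V'.left, ∃ b : An.Pts V.left,
        An.Pts.map (X := V.left) (Y := U.left) k.left b = ((An.eps U.left).obj V').p b' := by
  have hU : Etale U.hom := U.prop
  have hV : Etale V'.hom := V'.prop
  let V : X.Etale := Scheme.Etale.mk (V'.hom ≫ U.hom)
  let k : V ⟶ U := MorphismProperty.Over.homMk V'.hom rfl trivial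
  let i₁ : V'.left.Over An.SC := An.etaleOverLeft X V
  let i₂ : V'.left.Over An.SC := An.etaleOverLeft U.left V'
  have h2 : @CategoryTheory.over _ _ V'.left An.SC i₁ = @CategoryTheory.over _ _ V'.left An.SC i₂ := by
    change (V'.hom ≫ U.hom) ≫ (X ↘ An.SC) = V'.hom ≫ (U.hom ≫ (X ↘ An.SC))
    rw [Category.assoc]
  let c : @An.Pts V'.left i₁ ≃ₜ @An.Pts V'.left i₂ :=
    { toFun := An.Pts.cast i₁ i₂ h2
      invFun := An.Pts.cast i₂ i₁ h2.symm
      left_inv := fun a => rfl
      right_inv := fun a => rfl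
      continuous_toFun := (An.Pts.cast i₁ i₂ h2).continuous
      continuous_invFun := (An.Pts.cast i₂ i₁ h2.symm).continuous }
  have hc : ∀ b : @An.Pts V'.left i₁, ((An.eps U.left).obj V').p (c b) =
      An.Pts.map (X := V.left) (Y := U.left) k.left b := fun b => Subtype.ext rfl
  refine ⟨V, k, ⟨c, c.continuous, fun b => ?_⟩, fun y => ?_, fun b' => ⟨c.symm b', ?_⟩⟩
  · change ((An.eps X).obj U).p (((An.eps U.left).obj V').p (c b)) = ((An.eps X).obj V).p b
    rw [hc]
    exact ((An.eps X).map k).over b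
  · apply An.Cl.hom_ext
    funext b
    exact (hc b).symm
  · rw [← hc, Homeomorph.apply_symm_apply]

theorem diesAt_of_LDat {U : X.Etale} {G : An.Cl.Ab (An.Pts X)} {q : ℕ} {a : An.Pts U.left}
    (h : LDat (X := U.left) ((restr ((An.eps X).obj U)).obj G) q a)
    (x : HA ((An.eps X).obj U) G q) : DiesAt x a := by
  obtain ⟨y, hy⟩ := exists_restr ((An.eps X).obj U) x
  obtain ⟨V', b', hb', hx⟩ := h y
  obtain ⟨V, k, c, hk, hb⟩ := exists_etale U V'
  obtain ⟨b, hb⟩ := hb b'
  refine ⟨V, k, b, hb.trans hb', ?_⟩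
  rw [hk ((An.eps U.left).obj V').lh.continuous, ← res_res]
  have h3 := hy _ hx ((An.eps U.left).obj V').lh.continuous
  rw [h3, res_zero]

theorem LDat_of_diesAt {G : An.Cl.Ab (An.Pts X)} {q : ℕ} {a : An.Pts X} (U : X.Etale)
    (a' : An.Pts U.left) (ha : ((An.eps X).obj U).p a' = a)
    (h : ∀ x : HA ((An.eps X).obj U) G q, DiesAt x a') : LDat G q a := by
  intro x
  obtain ⟨V, g, b, hb, hx⟩ := h (res (toSelf ((An.eps X).obj U)) x)
  refine ⟨V, b, ?_, ?_⟩
  · rw [← ha, ← hb]
    exact (((An.eps X).map g).over b).symm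
  · rw [res_res] at hx
    have h1 : (An.eps X).map g ≫ toSelf ((An.eps X).obj U) = toSelf ((An.eps X).obj V) :=
      (selfIsTerminal (An.Pts X)).hom_ext _ _
    rwa [h1] at hx

/-- `LDat` descends along an étale neighbourhood. -/
theorem LDat_of_etale {G : An.Cl.Ab (An.Pts X)} {q : ℕ} {a : An.Pts X} (U : X.Etale)
    (a' : An.Pts U.left) (ha : ((An.eps X).obj U).p a' = a)
    (h : LDat (X := U.left) ((restr ((An.eps X).obj U)).obj G) q a') : LDat G q a :=
  LDat_of_diesAt U a' ha (fun x => diesAt_of_LDat h x)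

end Scheme

end Groth.Agent.An.H887.LD
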