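import Mathlib.RingTheory.Polynomial.Resultant.Basic
import Mathlib.RingTheory.Polynomial.UniqueFactorization
import Mathlib.RingTheory.Polynomial.GaussLemma
import Mathlib.RingTheory.MvPolynomial.Homogeneous
import Mathlib.Algebra.MvPolynomial.Funext
import Mathlib.Algebra.MvPolynomial.Division
import Mathlib.Algebra.Squarefree.Basic
import Mathlib.FieldTheory.Perfect
import Mathlib.RingTheory.Localization.FractionRing

/-!
# Lines through a point which are transversal to a hypersurface

`exists_line`: a squarefree polynomial `P` in `m+1` variables over a field of characteristic zero which is nonzero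
at the origin, or has nonzero differential there, has for a suitable direction `(1, v)` a restriction
to the line `s ↦ s (1, v)` which is a separable polynomial of degree `totalDegree P`.
-/

set_option autoImplicit false

open Polynomial

namespace Groth.Agent.An.H887.Line

section squarefree

variable {R : Type*} [CommRing R] [IsDomain R] [UniqueFactorizationMonoid R]
  {F : Type*} [Field F] [Algebra R F] [IsFractionRing R F]

/-- a squarefree polynomial over a UFD stays squarefree over the field of fractions -/
theorem squarefree_map {Q : R[X]} (hQ : Squarefree Q) : Squarefree (Q.map (algebraMap R F)) := by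
  classical
  have hQ0 : Q ≠ 0 := hQ.ne_zero
  let : NormalizedGCDMonoid R := Classical.choice inferInstance
  have hinj : Function.Injective (algebraMap R F) := IsFractionRing.injective R F
  have hQ0' : Q.map (algebraMap R F) ≠ 0 := by
    rwa [Ne, Polynomial.map_eq_zero_iff hinj]
  rw [squarefree_iff_irreducible_sq_not_dvd_of_ne_zero hQ0']
  intro p hp hdvd
  set q := (IsLocalization.integerNormalization (nonZeroDivisors R) p).primPart with hq
  have hprim : q.IsPrimitive := isPrimitive_primPart _
  obtain ⟨c, hc0, hc⟩ : ∃ c : F, c ≠ 0 ∧ q.map (algebraMap R F) = C c * p := by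
    obtain ⟨s, hs, hs'⟩ := IsLocalization.integerNormalization_spec (nonZeroDivisors R) p
    have hs0 : s ≠ 0 := nonZeroDivisors.ne_zero hs
    have hn0 : IsLocalization.integerNormalization (nonZeroDivisors R) p ≠ 0 := by
      intro h0
      rw [h0, Polynomial.map_zero] at hs'
      have : algebraMap R F s ≠ 0 := by
        rwa [Ne, map_eq_zero_iff _ hinj]
      have h2 : (s : R) • p = 0 := hs'.symm
      rw [← algebraMap_smul F s p, smul_eq_zero] at h2
      exact h2.elim this hp.ne_zero
    set N := IsLocalization.integerNormalization (nonZeroDivisors R) p with hN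
    have hcont : N.content ≠ 0 := by rwa [Ne, Polynomial.content_eq_zero_iff]
    have hcont' : algebraMap R F N.content ≠ 0 := by rwa [Ne, map_eq_zero_iff _ hinj]
    have h1 : N.map (algebraMap R F) = C (algebraMap R F N.content) * q.map (algebraMap R F) := by
      conv_lhs => rw [N.eq_C_content_mul_primPart]
      rw [Polynomial.map_mul, Polynomial.map_C]
    refine ⟨(algebraMap R F N.content)⁻¹ * algebraMap R F s, ?_, ?_⟩
    · exact mul_ne_zero (inv_ne_zero hcont') (by rwa [Ne, map_eq_zero_iff _ hinj])
    · have h2 : N.map (algebraMap R F) = C (algebraMap R F s) * p := by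
        rw [hs', ← Polynomial.smul_eq_C_mul, algebraMap_smul]
      rw [h1] at h2
      rw [C_mul, mul_assoc, ← h2, ← mul_assoc, ← C_mul, inv_mul_cancel₀ hcont', C_1, one_mul]
  have hdvd2 : (q * q).map (algebraMap R F) ∣ Q.map (algebraMap R F) := by
    have hu : IsUnit (C c : F[X]) := isUnit_C.mpr (isUnit_iff_ne_zero.mpr hc0)
    rw [Polynomial.map_mul, hc]
    have : C c * p * (C c * p) = (C c * C c) * (p * p) := by ring
    rw [this, (hu.mul hu).mul_left_dvd]
    exact hdvd
  have hdvd3 : q * q ∣ Q := by
    exact IsPrimitive.dvd_of_fraction_map_dvd_fraction_map (hprim.mul hprim) hdvd2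
  have hqu := hQ q hdvd3
  have : IsUnit (q.map (algebraMap R F)) := hqu.map (Polynomial.mapRingHom (algebraMap R F))
  rw [hc] at this
  exact hp.not_isUnit (isUnit_of_mul_isUnit_right this)

end squarefree

section blowup

variable (K : Type*) [Field K] (m : ℕ)

/-- the chart `w₀ = s`, `w_{i+1} = s y_i` of the blow-up of the origin -/
noncomputable def theta : MvPolynomial (Fin (m + 1)) K →ₐ[K] (MvPolynomial (Fin m) K)[X] :=
  MvPolynomial.aeval (Fin.cons X (fun i => C (MvPolynomial.X i) * X))

@[simp] theorem theta_X_zero : theta K m (MvPolynomial.X 0) = X := by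
  simp [theta]

@[simp] theorem theta_X_succ (i : Fin m) :
    theta K m (MvPolynomial.X i.succ) = C (MvPolynomial.X i) * X := by
  simp [theta]

theorem theta_injective : Function.Injective (theta K m) := by
  let L := FractionRing (MvPolynomial (Fin (m + 1)) K)
  let a : MvPolynomial (Fin (m + 1)) K →+* L := algebraMap _ _
  let y : Fin m → L := fun i => a (MvPolynomial.X i.succ) / a (MvPolynomial.X 0)
  let η₀ : MvPolynomial (Fin m) K →ₐ[K] L := MvPolynomial.aeval y
  let η : (MvPolynomial (Fin m) K)[X] →+* L := Polynomial.eval₂RingHom η₀.toRingHom (a (MvPolynomial.X 0))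
  have ha : Function.Injective a := IsFractionRing.injective _ _
  have h0 : a (MvPolynomial.X 0) ≠ 0 := by
    rw [Ne, map_eq_zero_iff _ ha]
    exact MvPolynomial.X_ne_zero 0
  have h : η.comp (theta K m).toRingHom = a := by
    refine MvPolynomial.ringHom_ext (fun c => ?_) (fun i => ?_)
    · have : (theta K m) (MvPolynomial.C c) = C (MvPolynomial.C c) := by
        rw [← MvPolynomial.algebraMap_eq, AlgHom.commutes]
        rfl
      change η ((theta K m) (MvPolynomial.C c)) = _
      rw [this]
      change Polynomial.eval₂ _ _ (C (MvPolynomial.C c)) = _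
      rw [Polynomial.eval₂_C]
      change η₀ (MvPolynomial.C c) = _
      rw [← MvPolynomial.algebraMap_eq, AlgHom.commutes]
      rfl
    · refine Fin.cases ?_ (fun j => ?_) i
      · change η ((theta K m) (MvPolynomial.X 0)) = _
        rw [theta_X_zero]
        exact Polynomial.eval₂_X _ _
      · change η ((theta K m) (MvPolynomial.X j.succ)) = _
        rw [theta_X_succ, map_mul]
        change Polynomial.eval₂ _ _ (C (MvPolynomial.X j)) * Polynomial.eval₂ _ _ X = _
        rw [Polynomial.eval₂_C, Polynomial.eval₂_X]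
        change η₀ (MvPolynomial.X j) * _ = _
        rw [MvPolynomial.aeval_X]
        exact div_mul_cancel₀ _ h0
  intro p q hpq
  apply ha
  rw [← h]
  exact congrArg η hpq

theorem exists_theta_eq (q : (MvPolynomial (Fin m) K)[X]) :
    ∃ (N : ℕ) (p : MvPolynomial (Fin (m + 1)) K), theta K m p = X ^ N * q := by
  induction q using Polynomial.induction_on' with
  | add p q hp hq =>
    obtain ⟨M, P, hP⟩ := hp
    obtain ⟨N, Q, hQ⟩ := hq
    refine ⟨M + N, MvPolynomial.X 0 ^ N * P + MvPolynomial.X 0 ^ M * Q, ?_⟩
    rw [map_add, map_mul, map_mul, map_pow, map_pow, theta_X_zero, hP, hQ]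
    ring
  | monomial n c =>
    suffices h : ∃ (N : ℕ) (p : MvPolynomial (Fin (m + 1)) K), theta K m p = X ^ N * C c by
      obtain ⟨N, p, hp⟩ := h
      refine ⟨N, p * MvPolynomial.X 0 ^ n, ?_⟩
      rw [map_mul, map_pow, theta_X_zero, hp, ← C_mul_X_pow_eq_monomial]
      ring
    induction c using MvPolynomial.induction_on with
    | C a =>
      refine ⟨0, MvPolynomial.C a, ?_⟩
      rw [← MvPolynomial.algebraMap_eq, AlgHom.commutes, pow_zero, one_mul]
      rfl
    | add p q hp hq =>
      obtain ⟨M, P, hP⟩ := hp
      obtain ⟨N, Q, hQ⟩ := hq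
      refine ⟨M + N, MvPolynomial.X 0 ^ N * P + MvPolynomial.X 0 ^ M * Q, ?_⟩
      rw [map_add, map_mul, map_mul, map_pow, map_pow, theta_X_zero, hP, hQ, C_add]
      ring
    | mul_X p i hp =>
      obtain ⟨N, P, hP⟩ := hp
      refine ⟨N + 1, P * MvPolynomial.X i.succ, ?_⟩
      rw [map_mul, theta_X_succ, hP, C_mul]
      ring

variable {K m}

/-- the blow-up chart of a squarefree polynomial is squarefree when `X²` does not divide it -/
theorem squarefree_theta {P : MvPolynomial (Fin (m + 1)) K} (hP : Squarefree P)
    (hX : ¬ X * X ∣ theta K m P) : Squarefree (theta K m P) := by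
  intro q hq
  obtain ⟨r, hr⟩ := hq
  obtain ⟨N, q', hq'⟩ := exists_theta_eq K m q
  obtain ⟨M, r', hr'⟩ := exists_theta_eq K m r
  have hw : Prime (MvPolynomial.X 0 : MvPolynomial (Fin (m + 1)) K) := MvPolynomial.X_prime
  have h1 : q' * q' * r' = MvPolynomial.X 0 ^ (N + N + M) * P := by
    apply theta_injective K m
    rw [map_mul, map_mul, map_mul, map_pow, theta_X_zero, hq', hr', hr]
    ring
  have hP0 : P ≠ 0 := hP.ne_zero
  have hq0 : q' ≠ 0 := by
    rintro rfl
    rw [zero_mul, zero_mul] at h1
    exact mul_ne_zero (pow_ne_zero _ hw.ne_zero) hP0 h1.symm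
  obtain ⟨a, q'', hq''1, hq''2⟩ := WfDvdMonoid.max_power_factor hq0 hw.irreducible
  have h2 : q'' * q'' ∣ P := by
    have h3 : q'' * q'' ∣ MvPolynomial.X 0 ^ (N + N + M) * P := by
      rw [← h1, hq''2]
      exact ⟨MvPolynomial.X 0 ^ a * MvPolynomial.X 0 ^ a * r', by ring⟩
    have h4 : IsRelPrime (q'' * q'') (MvPolynomial.X 0 ^ (N + N + M)) := by
      have : IsRelPrime q'' (MvPolynomial.X 0) :=
        (hw.irreducible.isRelPrime_iff_not_dvd.mpr hq''1).symm
      exact (this.mul_left this).pow_right
    exact h4.dvd_of_dvd_mul_left h3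
  have h5 : IsUnit q'' := hP q'' h2
  have h6 : X ^ N * q = X ^ a * theta K m q'' := by
    rw [← hq', hq''2, map_mul, map_pow, theta_X_zero]
  have hu : IsUnit (theta K m q'') := h5.map (theta K m)
  rcases lt_or_ge N a with hlt | hle
  · obtain ⟨k, rfl⟩ : ∃ k, a = N + (k + 1) := ⟨a - N - 1, by omega⟩
    exfalso
    apply hX
    have h7 : q = X * (X ^ k * theta K m q'') := by
      have : X ^ N * q = X ^ N * (X * (X ^ k * theta K m q'')) := by
        rw [h6]; ring
      exact mul_left_cancel₀ (pow_ne_zero _ X_ne_zero) this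
    rw [hr]
    refine ⟨(X ^ k * theta K m q'') * (X ^ k * theta K m q'') * r, ?_⟩
    conv_lhs => rw [h7]
    ring
  · obtain ⟨k, rfl⟩ : ∃ k, N = a + k := ⟨N - a, by omega⟩
    have h7 : X ^ k * q = theta K m q'' := by
      have : X ^ a * (X ^ k * q) = X ^ a * theta K m q'' := by
        rw [← h6]; ring
      exact mul_left_cancel₀ (pow_ne_zero _ X_ne_zero) this
    rw [← h7] at hu
    exact isUnit_of_mul_isUnit_right hu

end blowup

end Groth.Agent.An.H887.Line
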