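import Groth.Agent.An.H887.Line
import Mathlib.Algebra.MvPolynomial.Equiv
import Mathlib.Algebra.MvPolynomial.PDeriv
import Mathlib.Algebra.CharZero.Infinite

/-!
# A transversal line through the origin, and the corresponding linear change of coordinates
-/

set_option autoImplicit false

open Polynomial

namespace Groth.Agent.An.H887.LineB

open Groth.Agent.An.H887.Line

variable {K : Type*} [Field K] {m : ℕ}

/-- dehomogenisation `w₀ = 1`, `w_{i+1} = y_i` -/
noncomputable def dehom : MvPolynomial (Fin (m + 1)) K →ₐ[K] MvPolynomial (Fin m) K :=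
  MvPolynomial.aeval (Fin.cons 1 (fun i => MvPolynomial.X i))

theorem theta_eq (i : Fin (m + 1)) :
    theta K m (MvPolynomial.X i) = C (dehom (MvPolynomial.X i)) * X := by
  refine Fin.cases ?_ (fun j => ?_) i
  · simp [dehom]
  · simp [dehom]

theorem theta_monomial (a : Fin (m + 1) →₀ ℕ) (c : K) :
    theta K m (MvPolynomial.monomial a c) = C (dehom (MvPolynomial.monomial a c)) * X ^ a.degree := by
  induction a using Finsupp.induction generalizing c with
  | zero =>
    rw [← MvPolynomial.C_apply, ← MvPolynomial.algebraMap_eq, AlgHom.commutes, AlgHom.commutes]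
    simp [Finsupp.degree]
  | single_add i n f hi hn ih =>
    have h : MvPolynomial.monomial (Finsupp.single i n + f) c
        = MvPolynomial.X (R := K) i ^ n * MvPolynomial.monomial f c := by
      rw [MvPolynomial.X_pow_eq_monomial, MvPolynomial.monomial_mul, one_mul]
    rw [h, map_mul, map_mul, map_pow, map_pow, theta_eq, ih, map_add, Finsupp.degree_single]
    rw [C_mul, C_pow, mul_pow, pow_add]
    ring

theorem coeff_theta (P : MvPolynomial (Fin (m + 1)) K) (k : ℕ) :
    (theta K m P).coeff k = dehom (MvPolynomial.homogeneousComponent k P) := by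
  induction P using MvPolynomial.monomial_add_induction_on with
  | C c =>
    rw [MvPolynomial.C_apply, theta_monomial, MvPolynomial.homogeneousComponent_of_mem
      (MvPolynomial.isHomogeneous_monomial (n := 0) c (by simp [Finsupp.degree]))]
    simp only [map_zero, pow_zero, mul_one, coeff_C]
    split_ifs with h1 <;> simp_all
  | monomial_add a c P ha hc ih =>
    rw [map_add, map_add, map_add, coeff_add, ih, theta_monomial,
      MvPolynomial.homogeneousComponent_of_mem
      (MvPolynomial.isHomogeneous_monomial (n := a.degree) c rfl)]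
    congr 1
    rw [coeff_C_mul_X_pow]
    split_ifs with h1 <;> simp_all

theorem dehom_ne_zero {P : MvPolynomial (Fin (m + 1)) K} {k : ℕ} (hP : P.IsHomogeneous k)
    (h0 : P ≠ 0) : dehom P ≠ 0 := by
  intro h
  apply h0
  apply theta_injective K m
  rw [map_zero]
  ext1 j
  rw [coeff_theta, coeff_zero, MvPolynomial.homogeneousComponent_of_mem hP]
  split_ifs with h1
  · exact h
  · simp

theorem natDegree_theta {P : MvPolynomial (Fin (m + 1)) K} (hP : P ≠ 0) :
    (theta K m P).natDegree = P.totalDegree := by
  apply le_antisymm
  · rw [Polynomial.natDegree_le_iff_coeff_eq_zero]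
    intro k hk
    rw [coeff_theta, MvPolynomial.homogeneousComponent_eq_zero _ _ hk, map_zero]
  · apply Polynomial.le_natDegree_of_ne_zero
    rw [coeff_theta]
    refine dehom_ne_zero (MvPolynomial.homogeneousComponent_isHomogeneous _ _) ?_
    intro h
    obtain ⟨a, ha, ha'⟩ : ∃ a ∈ P.support, a.degree = P.totalDegree := by
      have hne : P.support.Nonempty := MvPolynomial.support_nonempty.mpr hP
      obtain ⟨a, ha, h⟩ := Finset.exists_mem_eq_sup P.support hne (fun s => s.sum fun _ e => e)
      exact ⟨a, ha, h.symm⟩
    have h2 := congrArg (MvPolynomial.coeff a) h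
    rw [MvPolynomial.coeff_homogeneousComponent, if_pos ha', MvPolynomial.coeff_zero] at h2
    exact (MvPolynomial.mem_support_iff.mp ha) h2

section points

variable [Infinite K]

theorem exists_eval_ne_zero {n : ℕ} {p : MvPolynomial (Fin n) K} (hp : p ≠ 0) :
    ∃ v, MvPolynomial.eval v p ≠ 0 := by
  by_contra h
  push Not at h
  exact hp (MvPolynomial.funext fun v => by rw [h v, map_zero])

end points

section lines

variable [CharZero K]

theorem resultant_derivative_ne_zero {Q : (MvPolynomial (Fin m) K)[X]} (hQ : Squarefree Q) :
    Q.resultant (derivative Q) ≠ 0 := by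
  let F := FractionRing (MvPolynomial (Fin m) K)
  have hinj : Function.Injective (algebraMap (MvPolynomial (Fin m) K) F) :=
    IsFractionRing.injective _ _
  have : CharZero F := charZero_of_injective_algebraMap (algebraMap K F).injective
  have h1 : Squarefree (Q.map (algebraMap (MvPolynomial (Fin m) K) F)) := squarefree_map hQ
  rw [← PerfectField.separable_iff_squarefree] at h1
  have h2 := resultant_ne_zero _ _ h1
  rw [Polynomial.derivative_map, Polynomial.natDegree_map_eq_of_injective hinj,
    Polynomial.natDegree_map_eq_of_injective hinj, resultant_map_map] at h2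
  intro h3
  exact h2 (by rw [h3, map_zero])

/-- A squarefree polynomial which at the origin is nonzero or has nonzero differential restricts to
a separable polynomial of maximal degree on a suitable line through the origin. -/
theorem exists_line {P : MvPolynomial (Fin (m + 1)) K} (hP : Squarefree P)
    (hX : ¬ X * X ∣ theta K m P) :
    ∃ v : Fin m → K, ((theta K m P).map (MvPolynomial.eval v)).natDegree = P.totalDegree ∧
      ((theta K m P).map (MvPolynomial.eval v)).Separable := by
  have hP0 : P ≠ 0 := hP.ne_zero
  have hQ := squarefree_theta hP hX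
  set Q := theta K m P with hQdef
  have hr := resultant_derivative_ne_zero hQ
  have hl : Q.leadingCoeff ≠ 0 := by
    rw [Ne, leadingCoeff_eq_zero]; exact hQ.ne_zero
  obtain ⟨v, hv⟩ := exists_eval_ne_zero (mul_ne_zero hl hr)
  rw [map_mul] at hv
  have hvl : MvPolynomial.eval v Q.leadingCoeff ≠ 0 := left_ne_zero_of_mul hv
  have hvr : MvPolynomial.eval v (Q.resultant (derivative Q)) ≠ 0 := right_ne_zero_of_mul hv
  have hdeg : (Q.map (MvPolynomial.eval v)).natDegree = Q.natDegree :=
    Polynomial.natDegree_map_of_leadingCoeff_ne_zero _ hvl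
  refine ⟨v, by rw [hdeg, hQdef, natDegree_theta hP0], ?_⟩
  rcases Nat.eq_zero_or_pos Q.natDegree with h0 | h0
  · have h1 : Q.map (MvPolynomial.eval v) = C ((MvPolynomial.eval v) Q.leadingCoeff) := by
      conv_lhs => rw [Polynomial.eq_C_of_natDegree_eq_zero h0]
      rw [Polynomial.map_C, Polynomial.leadingCoeff, h0]
    rw [h1]
    exact (separable_C _).mpr (isUnit_iff_ne_zero.mpr hvl)
  · have hd1 : (derivative Q).natDegree = Q.natDegree - 1 := Polynomial.natDegree_derivative Q
    have hd2 : (derivative (Q.map (MvPolynomial.eval v))).natDegree = Q.natDegree - 1 := by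
      rw [Polynomial.natDegree_derivative, hdeg]
    have h2 : (Q.map (MvPolynomial.eval v)).resultant (derivative (Q.map (MvPolynomial.eval v))) ≠ 0 := by
      rw [hd2, hdeg, derivative_map, resultant_map_map, ← hd1]
      exact hvr
    rw [Ne, resultant_eq_zero_iff, not_and_not_right] at h2
    exact h2 (Or.inl (by
      rw [Ne, ← leadingCoeff_eq_zero, leadingCoeff, hdeg, coeff_map]
      exact hvl))

end lines

theorem eval_zero_pderiv (P : MvPolynomial (Fin (m + 1)) K) (i : Fin (m + 1)) :
    MvPolynomial.eval 0 (MvPolynomial.pderiv i P) = MvPolynomial.coeff (Finsupp.single i 1) P := by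
  classical
  induction P using MvPolynomial.monomial_add_induction_on with
  | C c =>
    rw [MvPolynomial.pderiv_C, map_zero, MvPolynomial.coeff_C, if_neg]
    intro h
    have := DFunLike.congr_fun h i
    simp at this
  | monomial_add a c P ha hc ih =>
    rw [map_add, map_add, ih, MvPolynomial.coeff_add]
    congr 1
    rw [MvPolynomial.pderiv_monomial, MvPolynomial.coeff_monomial, MvPolynomial.eval_monomial]
    split_ifs with h
    · subst h
      simp
    · by_cases h0 : a i = 0
      · rw [h0]; simp
      · obtain ⟨j, hj⟩ : ∃ j, (a - Finsupp.single i 1 : Fin (m + 1) →₀ ℕ) j ≠ 0 := by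
          by_contra hcon
          push Not at hcon
          apply h
          ext j
          have := hcon j
          rw [Finsupp.tsub_apply] at this
          by_cases hij : j = i
          · subst hij
            rw [Finsupp.single_eq_same] at this ⊢
            omega
          · rw [Finsupp.single_eq_of_ne hij] at this ⊢
            omega
        have : ((a - Finsupp.single i 1).prod fun n e => ((0 : Fin (m + 1) → K) n) ^ e) = 0 := by
          rw [Finsupp.prod]
          exact Finset.prod_eq_zero (Finsupp.mem_support_iff.mpr hj) (by rw [Pi.zero_apply, zero_pow hj])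
        rw [this, mul_zero]

/-- The condition of `exists_line` in terms of the value and the differential at the origin. -/
theorem not_dvd_theta {P : MvPolynomial (Fin (m + 1)) K}
    (h : MvPolynomial.eval 0 P ≠ 0 ∨ ∃ i, MvPolynomial.eval 0 (MvPolynomial.pderiv i P) ≠ 0) :
    ¬ X * X ∣ theta K m P := by
  rintro ⟨q, hq⟩
  have h0 : (theta K m P).coeff 0 = 0 := by
    rw [hq, mul_assoc, coeff_X_mul_zero]
  have h1 : (theta K m P).coeff 1 = 0 := by
    rw [hq, mul_assoc, coeff_X_mul, coeff_X_mul_zero]
  have key : ∀ k, (theta K m P).coeff k = 0 → MvPolynomial.homogeneousComponent k P = 0 := by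
    intro k hk
    by_contra hne
    rw [coeff_theta] at hk
    exact dehom_ne_zero (MvPolynomial.homogeneousComponent_isHomogeneous k P) hne hk
  rcases h with h | ⟨i, hi⟩
  · apply h
    have h2 := congrArg (MvPolynomial.coeff 0) (key 0 h0)
    rw [MvPolynomial.coeff_homogeneousComponent, if_pos (by simp), MvPolynomial.coeff_zero] at h2
    rw [← MvPolynomial.constantCoeff_eq] at h2
    rw [MvPolynomial.eval_zero]
    exact h2
  · apply hi
    rw [eval_zero_pderiv]
    have h2 := congrArg (MvPolynomial.coeff (Finsupp.single i 1)) (key 1 h1)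
    rw [MvPolynomial.coeff_homogeneousComponent, if_pos (by simp), MvPolynomial.coeff_zero] at h2
    exact h2

end Groth.Agent.An.H887.LineB
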