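import Groth.Agent.An.H887.GC
import Groth.Agent.An.H887.FLC0
import Groth.Agent.An.H877.Five
import Groth.Agent.An.H537.ClCell
import Groth.Agent.An.H162.PtsBox

/-!
# Cohomology of `h⁻¹ V` for a map which is locally a finite covering of `box × (ℂ ∖ F)`
-/

set_option autoImplicit false

open CategoryTheory Category Limits Opposite TopologicalSpace Topology An Function

noncomputable section

namespace Groth.Agent.An.H887.PB

open Groth.Agent.An.H537 Gen Cosheaf ClOpens ClBox Cell ClCell Groth.Agent.An.H886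
open Groth.Agent.An.H887.Sheets Groth.Agent.An.H887.Rect Groth.Agent.An.H887.GC
open Groth.Agent.An.H162.PtsBox

variable {T S' : Type} [TopologicalSpace T] [TopologicalSpace S']

/-- The open subset of `V₀` given by a set of coordinates. -/
def sub {m : ℕ} (V₀ : Opens S') {e : V₀ → (Fin m → ℂ)} (he : Continuous e) {C : Set (Fin m → ℂ)}
    (hC : IsOpen C) : Opens S' :=
  ⟨Subtype.val '' (e ⁻¹' C), V₀.2.isOpenMap_subtype_val _ (hC.preimage he)⟩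

theorem mem_sub {m : ℕ} {V₀ : Opens S'} {e : V₀ → (Fin m → ℂ)} (he : Continuous e)
    {C : Set (Fin m → ℂ)} (hC : IsOpen C) {x : S'} :
    x ∈ sub V₀ he hC ↔ ∃ hx : x ∈ V₀, e ⟨x, hx⟩ ∈ C := by
  constructor
  · rintro ⟨⟨y, hy⟩, h1, rfl⟩
    exact ⟨hy, h1⟩
  · rintro ⟨hx, h1⟩
    exact ⟨⟨x, hx⟩, h1, rfl⟩

theorem sub_le {m : ℕ} {V₀ : Opens S'} {e : V₀ → (Fin m → ℂ)} (he : Continuous e)
    {C : Set (Fin m → ℂ)} (hC : IsOpen C) : sub V₀ he hC ≤ V₀ := fun _ hx =>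
  ((mem_sub he hC).1 hx).1

/-- The image in `T` of an open subset of `h⁻¹ V₀`. -/
def img (h : C(T, S')) (V₀ : Opens S') {W : Set {t : T // h t ∈ V₀}} (hW : IsOpen W) : Opens T :=
  ⟨Subtype.val '' W, (V₀.comap h).2.isOpenMap_subtype_val _ hW⟩

theorem mem_img {h : C(T, S')} {V₀ : Opens S'} {W : Set {t : T // h t ∈ V₀}} (hW : IsOpen W)
    {t : T} : t ∈ img h V₀ hW ↔ ∃ ht : h t ∈ V₀, (⟨t, ht⟩ : {t : T // h t ∈ V₀}) ∈ W := by
  constructor
  · rintro ⟨⟨y, hy⟩, h1, rfl⟩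
    exact ⟨hy, h1⟩
  · rintro ⟨hx, h1⟩
    exact ⟨⟨t, hx⟩, h1, rfl⟩

/-- The part over a small box of a member of the good cover is empty or a cell. -/
theorem cell_or_empty {h : C(T, S')} {m : ℕ} {V₀ : Opens S'} {e : V₀ → (Fin m → ℂ)}
    (he : Continuous e) {C : Set (Fin m → ℂ)} {ω : ℂ} {hω : ω ≠ 0}
    {p : {t : T // h t ∈ V₀} → (Fin m → ℂ) × ℂ} (hpc : Continuous p)
    (hpe : ∀ t, (p t).1 = e ⟨h t.1, t.2⟩) {W : Set {t : T // h t ∈ V₀}} (hWo : IsOpen W)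
    (hW : EmptyOrSheet (scale m ω hω ∘ p) C W) {X : Opens T} (hX : X = img h V₀ hWo) :
    X = ⊥ ∨ ∀ (c' : Fin m → ℂ) (ε : ℝ), 0 < ε → box c' ε ⊆ C →
      IsCell ↥(X ⊓ (sub V₀ he (isOpen_box c' ε)).comap h) := by
  rcases hW with hW | ⟨a, b, c, d, hne, hs⟩
  · left
    rw [eq_bot_iff]
    intro t ht
    rw [hX] at ht
    obtain ⟨h1, h2⟩ := (mem_img hWo).1 ht
    rw [hW] at h2
    exact h2.elim
  right
  intro c' ε hε hC'
  have hqc : Continuous (scale m ω hω ∘ p) := (scale m ω hω).continuous.comp hpc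
  have hs' := hs.mono (N' := box c' ε ×ˢ rect a b c d) (Set.prod_mono_left hC')
  have hcell : IsCell ↥(W ∩ (scale m ω hω ∘ p) ⁻¹' (box c' ε ×ˢ rect a b c d)) :=
    (isCell_set_prod (isCell_cbox c' hε) (isCell_rect hne)).of_homeo (hs'.homeomorph hqc)
  have hset : (↑(X ⊓ (sub V₀ he (isOpen_box c' ε)).comap h) : Set T) =
      Subtype.val '' (W ∩ (scale m ω hω ∘ p) ⁻¹' (box c' ε ×ˢ rect a b c d)) := by
    ext t
    change (t ∈ X ∧ h t ∈ sub V₀ he (isOpen_box c' ε)) ↔ _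
    rw [hX, mem_img]
    constructor
    · rintro ⟨⟨h1, h2⟩, h3⟩
      obtain ⟨h4, h5⟩ := (mem_sub he _).1 h3
      refine ⟨⟨t, h1⟩, ⟨h2, ?_, (hs.subset_preimage h2).2⟩, rfl⟩
      change (p ⟨t, h1⟩).1 ∈ box c' ε
      rw [hpe]
      exact h5
    · rintro ⟨⟨t, h1⟩, ⟨h2, h3, -⟩, rfl⟩
      refine ⟨⟨h1, h2⟩, (mem_sub he _).2 ⟨h1, ?_⟩⟩
      have h4 : (p ⟨t, h1⟩).1 ∈ box c' ε := h3
      rw [hpe] at h4
      exact h4
  have h6 : ↥(↑(X ⊓ (sub V₀ he (isOpen_box c' ε)).comap h) : Set T) ≃ₜ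
      ↥(W ∩ (scale m ω hω ∘ p) ⁻¹' (box c' ε ×ˢ rect a b c d)) :=
    (Homeomorph.setCongr hset).trans (IsEmbedding.subtypeVal.homeomorphImage _).symm
  exact hcell.of_homeo h6

theorem simplyConnected_of_isCell {X : Type} [TopologicalSpace X] (hX : IsCell X) :
    SimplyConnectedSpace X ∧ LocallyPathConnectedSpace X := by
  obtain ⟨n, _, ⟨f⟩⟩ := hX
  have h1 : ContractibleSpace X := f.contractibleSpace_iff.2 inferInstance
  exact ⟨inferInstance, f.symm.isQuotientMap.locallyPathConnectedSpace⟩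

section Main

variable {h : C(T, S')} {m : ℕ} {V₀ : Opens S'} {c : Fin m → ℂ} {δ : ℝ} (hδ : 0 < δ)
  (e : V₀ ≃ₜ box c δ) (F : Finset ℂ) (p : {t : T // h t ∈ V₀} → (Fin m → ℂ) × ℂ)
  (cov : IsCoveringMapOn p (box c δ ×ˢ (F : Set ℂ)ᶜ)) (hp : ∀ t, p t ∈ box c δ ×ˢ (F : Set ℂ)ᶜ)
  (hfin : ∀ x, (p ⁻¹' {x}).Finite) (hpe : ∀ t, (p t).1 = e ⟨h t.1, t.2⟩)

/-- The coordinates on `V₀`. -/
theorem continuous_coord : Continuous (fun x : V₀ => (e x : Fin m → ℂ)) :=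
  continuous_subtype_val.comp e.continuous

/-- The basis of boxes. -/
def boxes : Set (Opens S') :=
  {V | ∃ (c' : Fin m → ℂ) (ε : ℝ), 0 < ε ∧ box c' ε ⊆ box c δ ∧
    V = sub V₀ (continuous_coord e) (isOpen_box c' ε)}

include hδ in
theorem self_mem_boxes : V₀ ∈ boxes e := by
  refine ⟨c, δ, hδ, subset_rfl, ?_⟩
  ext x
  change x ∈ V₀ ↔ _
  rw [show ((x : S') ∈ (sub V₀ (continuous_coord e) (isOpen_box c δ) : Set S')) ↔ _ from mem_sub _ _]
  exact ⟨fun hx => ⟨hx, (e ⟨x, hx⟩).2⟩, fun hx => hx.1⟩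

theorem le_of_mem_boxes {V : Opens S'} (hV : V ∈ boxes e) : V ≤ V₀ := by
  obtain ⟨c', ε, -, -, rfl⟩ := hV
  exact sub_le _ _

theorem exists_box_subset {m : ℕ} {y : Fin m → ℂ} {N : Set (Fin m → ℂ)} (hN : IsOpen N)
    (hy : y ∈ N) : ∃ ε : ℝ, 0 < ε ∧ box y ε ⊆ N := by
  obtain ⟨r, hr, hball⟩ := Metric.isOpen_iff.1 hN y hy
  refine ⟨r / 3, by positivity, (box_subset_ball y (by positivity)).trans ?_⟩
  rwa [show 2 * (r / 3) + r / 3 = r by ring]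

theorem exists_mem_boxes {t : S'} (ht : t ∈ V₀) {N : Opens S'} (htN : t ∈ N) :
    ∃ V ∈ boxes e, t ∈ V ∧ V ≤ N := by
  let y : Fin m → ℂ := e ⟨t, ht⟩
  have h1 : IsOpen (Subtype.val '' (e '' (Subtype.val ⁻¹' (N : Set S'))) : Set (Fin m → ℂ)) :=
    (isOpen_box c δ).isOpenMap_subtype_val _ (e.isOpenMap _ (N.isOpen.preimage continuous_subtype_val))
  obtain ⟨ε, hε, hsub⟩ := exists_box_subset (y := y) h1 ⟨e ⟨t, ht⟩, ⟨⟨t, ht⟩, htN, rfl⟩, rfl⟩
  refine ⟨sub V₀ (continuous_coord e) (isOpen_box y ε), ⟨y, ε, hε, ?_, rfl⟩, ?_, ?_⟩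
  · intro z hz
    obtain ⟨w, -, rfl⟩ := hsub hz
    exact w.2
  · exact (mem_sub _ _).2 ⟨ht, mem_box_self y hε⟩
  · intro x hx
    obtain ⟨hx1, hx2⟩ := (mem_sub _ _).1 hx
    obtain ⟨w, ⟨z, hz, hzw⟩, hw⟩ := hsub hx2
    have h2 : e ⟨x, hx1⟩ = e z := by
      apply Subtype.ext
      rw [hzw, hw]
    rw [e.injective.eq_iff] at h2
    rw [← h2] at hz
    exact hz

variable {G : Cl.Ab T} (hG : LocConst.IsFLC G)

include hδ cov hp hfin hpe hG in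
/-- **(B)**, at a chart. -/
theorem main :
    (∀ V ∈ boxes e, ∀ q, Subsingleton (H.{1} (ZA (Cl.self T)) G (q + 2) (V.comap h))) ∧
    (Finite (H.{1} (ZA (Cl.self T)) G 0 (V₀.comap h))) ∧
    (Finite (H.{1} (ZA (Cl.self T)) G 1 (V₀.comap h))) ∧
    (∀ V ∈ boxes e, ∀ (hV : V.comap h ≤ V₀.comap h) (n : ℕ),
      Function.Bijective (r.{1} (ZA (Cl.self T)) G n hV)) := by
  have hLC : LCOn G (Cl.self T) := lcOn_of_isLC hG.isLC _
  have hZ := isCosheaf (Cl.self T)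
  obtain ⟨ω, hω, I, J, hI, hJ, U, W, hUo, hWo, hUd, hWd, hUW, hU1, hW1, hUW1⟩ :=
    exists_goodCover (isOpen_box c δ) (convex_box c δ) ⟨c, mem_box_self c hδ⟩ F p cov hp hfin
  have hpc : Continuous p := by
    have h1 : IsLocalHomeomorph p := by
      rw [isLocalHomeomorph_iff_isLocalHomeomorphOn_univ]
      have := cov.isLocalHomeomorphOn
      have h2 : p ⁻¹' (box c δ ×ˢ (F : Set ℂ)ᶜ) = Set.univ := Set.eq_univ_of_forall hp
      rwa [h2] at this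
    exact h1.continuous
  let U' : I → Opens T := fun i => img h V₀ (hUo i)
  let W' : J → Opens T := fun j => img h V₀ (hWo j)
  have disj : ∀ {A B : Set {t : T // h t ∈ V₀}} (hA : IsOpen A) (hB : IsOpen B), Disjoint A B →
      img h V₀ hA ⊓ img h V₀ hB = ⊥ := by
    intro A B hA hB hAB
    rw [eq_bot_iff]
    rintro t ⟨h1, h2⟩
    obtain ⟨ht, h1⟩ := (mem_img hA).1 h1
    obtain ⟨ht', h2⟩ := (mem_img hB).1 h2
    exact Set.disjoint_left.1 hAB h1 h2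
  have hU' : ∀ i j, i ≠ j → U' i ⊓ U' j = ⊥ := fun i j hij => disj _ _ (hUd hij)
  have hW' : ∀ i j, i ≠ j → W' i ⊓ W' j = ⊥ := fun i j hij => disj _ _ (hWd hij)
  have hE : V₀.comap h ≤ iSup U' ⊔ iSup W' := by
    intro t ht
    have h1 : (⟨t, ht⟩ : {t : T // h t ∈ V₀}) ∈ (⋃ i, U i) ∪ (⋃ j, W j) := hUW ▸ Set.mem_univ _
    rcases h1 with h1 | h1
    · obtain ⟨i, hi⟩ := Set.mem_iUnion.1 h1
      exact Or.inl (Opens.mem_iSup.2 ⟨i, (mem_img (hUo i)).2 ⟨ht, hi⟩⟩)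
    · obtain ⟨i, hi⟩ := Set.mem_iUnion.1 h1
      exact Or.inr (Opens.mem_iSup.2 ⟨i, (mem_img (hWo i)).2 ⟨ht, hi⟩⟩)
  have hb : ∀ X : Opens T, X = ⊥ → ∀ V : Opens S', X ⊓ V.comap h = ⊥ := by
    rintro X rfl V
    exact bot_inf_eq _
  -- members of the cover over a box
  have key : ∀ X : Opens T, ((∃ i, X = U' i) ∨ (∃ j, X = W' j) ∨ ∃ i j, X = U' i ⊓ W' j) →
      X = ⊥ ∨ ∀ V ∈ boxes e, IsCell ↥(X ⊓ V.comap h) := by
    intro X hX
    suffices h1 : X = ⊥ ∨ ∀ (c' : Fin m → ℂ) (ε : ℝ), 0 < ε → box c' ε ⊆ box c δ →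
        IsCell ↥(X ⊓ (sub V₀ (continuous_coord e) (isOpen_box c' ε)).comap h) by
      refine h1.imp id ?_
      rintro h1 V ⟨c', ε, hε, hsub, rfl⟩
      exact h1 c' ε hε hsub
    rcases hX with ⟨i, rfl⟩ | ⟨j, rfl⟩ | ⟨i, j, rfl⟩
    · exact cell_or_empty (h := h) (continuous_coord e) hpc hpe (hUo i) (hU1 i) rfl
    · exact cell_or_empty (h := h) (continuous_coord e) hpc hpe (hWo j) (hW1 j) rfl
    · refine cell_or_empty (h := h) (continuous_coord e) hpc hpe ((hUo i).inter (hWo j))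
        (hUW1 i j) ?_
      ext t
      change (t ∈ img h V₀ (hUo i) ∧ t ∈ img h V₀ (hWo j)) ↔ t ∈ img h V₀ ((hUo i).inter (hWo j))
      rw [mem_img, mem_img, mem_img]
      exact ⟨fun h1 => ⟨h1.1.1, h1.1.2, h1.2.2⟩, fun h1 => ⟨⟨h1.1, h1.2.1⟩, ⟨h1.1, h1.2.2⟩⟩⟩
  have key' : ∀ X : Opens T, ((∃ i, X = U' i) ∨ (∃ j, X = W' j) ∨ ∃ i j, X = U' i ⊓ W' j) →
      ∀ V ∈ boxes e, (∀ q, Subsingleton (H.{1} (ZA (Cl.self T)) G (q + 1) (X ⊓ V.comap h))) ∧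
        Finite (H.{1} (ZA (Cl.self T)) G 0 (X ⊓ V.comap h)) := by
    intro X hX V hV
    rcases key X hX with h1 | h1
    · have h2 : X ⊓ V.comap h = ⊥ := hb X h1 V
      have h3 := H877.Disj.subsingleton_of_eq_bot hZ G 0 h2
      exact ⟨fun q => H877.Disj.subsingleton_of_eq_bot hZ G _ h2, @Finite.of_subsingleton _ h3⟩
    · refine ⟨fun q => subsingleton_open hLC (h1 V hV) q, ?_⟩
      obtain ⟨h2, h3⟩ := simplyConnected_of_isCell (h1 V hV)
      have h2' : SimplyConnectedSpace ((opensF (Cl.self T)).obj (X ⊓ V.comap h)).E := h2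
      have h3' : LocallyPathConnectedSpace ((opensF (Cl.self T)).obj (X ⊓ V.comap h)).E := h3
      exact H887.FLC0.finite_HA hG (A := (opensF (Cl.self T)).obj (X ⊓ V.comap h))
  have hmem := self_mem_boxes hδ e
  have hgood : ∀ V ∈ boxes e, ∀ hV : V.comap h ≤ V₀.comap h,
      (∀ q, Subsingleton (H.{1} (ZA (Cl.self T)) G (q + 2) (V₀.comap h))) ∧
        ∀ n, Function.Bijective (r.{1} (ZA (Cl.self T)) G n hV) := by
    intro V hV hle
    refine H877.Five.goodCover hZ G U' W' hU' hW' hE hle (fun X hX => ⟨(key' X hX V₀ hmem).1,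
      (key' X hX V hV).1, ?_⟩)
    rcases key X hX with h1 | h1
    · have i1 := H877.Disj.subsingleton_of_eq_bot hZ G 0
        (U := X ⊓ V₀.comap h) (hb X h1 V₀)
      have i2 := H877.Disj.subsingleton_of_eq_bot hZ G 0
        (U := X ⊓ V.comap h) (hb X h1 V)
      exact ⟨Function.injective_of_subsingleton _, fun y => ⟨0, Subsingleton.elim _ _⟩⟩
    · exact bijective_open hLC (h1 V₀ hmem) (h1 V hV) _
  refine ⟨fun V hV q => ?_, ?_, ?_, fun V hV hle n => (hgood V hV hle).2 n⟩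
  · have hle : V.comap h ≤ V₀.comap h := fun x hx => le_of_mem_boxes e hV hx
    obtain ⟨h1, h2⟩ := hgood V hV hle
    have := h1 q
    exact ⟨fun a b => by
      obtain ⟨a, rfl⟩ := (h2 (q + 2)).2 a
      obtain ⟨b, rfl⟩ := (h2 (q + 2)).2 b
      rw [Subsingleton.elim a b]⟩
  · exact H877.Five.finite_zero_goodCover hZ G U' W' hU' hW' hE
      (fun i => (key' _ (Or.inl ⟨i, rfl⟩) V₀ hmem).2)
      (fun j => (key' _ (Or.inr (Or.inl ⟨j, rfl⟩)) V₀ hmem).2)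
  · exact H877.Five.finite_succ_goodCover hZ G U' W' hU' hW' hE 0
      (fun i => by
        have := (key' _ (Or.inl ⟨i, rfl⟩) V₀ hmem).1 0
        infer_instance)
      (fun j => by
        have := (key' _ (Or.inr (Or.inl ⟨j, rfl⟩)) V₀ hmem).1 0
        infer_instance)
      (fun i j => (key' _ (Or.inr (Or.inr ⟨i, j, rfl⟩)) V₀ hmem).2)

end Main

end Groth.Agent.An.H887.PB
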