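import Groth.Agent.An.H887.PB
import Groth.Agent.An.H162.PtsSpecA
import Groth.Agent.An.H416.Fibration
import Groth.Agent.An.H866.EtLH
import Groth.Agent.An.H879.Covering
import Groth.Agent.An.H888.ClsLC

/-!
# Tubes of a finite étale cover of a punctured line bundle are good
-/

set_option autoImplicit false

open CategoryTheory Category Limits Opposite TopologicalSpace Topology An AlgebraicGeometry

noncomputable section

namespace Groth.Agent.An.H887.PBSch

open Groth.Agent.An.H537 Gen Cosheaf ClOpens ClBox Groth.Agent.An.H886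
open Groth.Agent.An.H162.PtsBox Groth.Agent.An.H162.PtsSpecA Groth.Agent.An.H887.SchDef
open Groth.Agent.An.H416.Fibration Groth.Agent.An.H888.ClsH

section Top

variable {T S' B : Type} [TopologicalSpace T] [TopologicalSpace S'] [TopologicalSpace B]

/-- `PB.main` in the form `IsGood`. -/
theorem isGood_of_chart {h : C(T, S')} {m : ℕ} {V₀ : Opens S'} {c : Fin m → ℂ} {δ : ℝ} (hδ : 0 < δ)
    (e : V₀ ≃ₜ box c δ) (F : Finset ℂ) (p : {t : T // h t ∈ V₀} → (Fin m → ℂ) × ℂ)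
    (cov : IsCoveringMapOn p (box c δ ×ˢ (F : Set ℂ)ᶜ)) (hp : ∀ t, p t ∈ box c δ ×ˢ (F : Set ℂ)ᶜ)
    (hfin : ∀ x, (p ⁻¹' {x}).Finite) (hpe : ∀ t, (p t).1 = e ⟨h t.1, t.2⟩) {G : Cl.Ab T}
    (hG : LocConst.IsFLC G) {s : S'} (hs : s ∈ V₀) : H888.ClsLC.IsGood h G s := by
  obtain ⟨h1, h2, h3, h4⟩ := PB.main hδ e F p cov hp hfin hpe hG
  refine ⟨V₀, hs, PB.boxes e, PB.self_mem_boxes hδ e, fun V hV => PB.le_of_mem_boxes e hV,
    fun s' hs' N hN => PB.exists_mem_boxes e hs' hN, ?_, ?_, ?_⟩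
  · intro V hV j hj
    obtain ⟨q, rfl⟩ := Nat.exists_eq_add_of_le' hj
    exact h1 V hV q
  · intro j hj
    interval_cases j
    · exact h2
    · exact h3
  · intro V hV hle j _
    exact h4 V hV (H888.ClsLC.comap_le h hle) j

/-- The chart of a tube from a covering of a product. -/
theorem isGood_of_covering {m : ℕ} (π : C(B, S')) (β : C(T, B)) (hβ : IsCoveringMap β)
    (hβfin : ∀ b, (β ⁻¹' {b}).Finite) (κ : S' → (Fin m → ℂ)) (hκ : Continuous κ)
    (c : Fin m → ℂ) {δ : ℝ} (hδ : 0 < δ) {F : Set ℂ} (hF : F.Finite)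
    (e : {x // κ x ∈ box c δ} ≃ₜ box c δ)
    (φ : {b : B // κ (π b) ∈ box c δ} ≃ₜ box c δ × (Fᶜ : Set ℂ))
    (he : ∀ x, (e x : Fin m → ℂ) = κ x.1) (hφ : ∀ b, ((φ b).1 : Fin m → ℂ) = κ (π b.1))
    {G : Cl.Ab T} (hG : LocConst.IsFLC G) (s : S') (hs : κ s ∈ box c δ) :
    H888.ClsLC.IsGood (π.comp β) G s := by
  let V₀ : Opens S' := ⟨κ ⁻¹' box c δ, (isOpen_box c δ).preimage hκ⟩
  let O : Set ((Fin m → ℂ) × ℂ) := box c δ ×ˢ (hF.toFinset : Set ℂ)ᶜ
  have hOo : IsOpen O := (isOpen_box c δ).prod hF.toFinset.finite_toSet.isClosed.isOpen_compl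
  let j : {b : B // κ (π b) ∈ box c δ} ≃ₜ O :=
    φ.trans ((Homeomorph.Set.prod (box c δ) (Fᶜ : Set ℂ)).symm.trans
      (Homeomorph.setCongr (by
        change box c δ ×ˢ Fᶜ = box c δ ×ˢ (hF.toFinset : Set ℂ)ᶜ
        rw [Set.Finite.coe_toFinset])))
  have hj : ∀ b, ((j b : (Fin m → ℂ) × ℂ)).1 = κ (π b.1) := fun b => hφ b
  let p : {t : T // (π.comp β) t ∈ V₀} → (Fin m → ℂ) × ℂ := fun t => j ⟨β t.1, t.2⟩
  have hres : IsCoveringMap (({b : B | κ (π b) ∈ box c δ}).restrictPreimage β) :=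
    hβ.restrictPreimage _
  have hcov : IsCoveringMap (fun t => (⟨p t, (j ⟨β t.1, t.2⟩).2⟩ : O)) :=
    hres.homeomorph_comp j
  refine isGood_of_chart (h := π.comp β) (V₀ := V₀) hδ e hF.toFinset p
    (IsCoveringMapOn.of_isCoveringMap_subtype hOo _ hcov) (fun t => (j ⟨β t.1, t.2⟩).2) ?_ ?_ hG hs
  · intro x
    by_cases hx : x ∈ O
    · have h1 : (β ⁻¹' {(j.symm ⟨x, hx⟩).1}).Finite := hβfin _
      refine Set.Finite.of_finite_image (f := Subtype.val) (h1.subset ?_)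
        Subtype.val_injective.injOn
      rintro _ ⟨t, ht, rfl⟩
      have h2 : j ⟨β t.1, t.2⟩ = ⟨x, hx⟩ := Subtype.ext ht
      rw [Set.mem_preimage, Set.mem_singleton_iff, ← h2, j.symm_apply_apply]
    · refine Set.finite_empty.subset ?_
      intro t ht
      exact hx ((show p t = x from ht) ▸ (j ⟨β t.1, t.2⟩).2)
  · intro t
    change (j ⟨β t.1, t.2⟩ : (Fin m → ℂ) × ℂ).1 = _
    rw [hj]
    exact (he ⟨(π.comp β) t.1, t.2⟩).symm

end Top

/-- **(B) for schemes**: tubes of `U → B → S`, `U → B` finite étale, `B → S` a standard family of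
punctured lines. -/
theorem isGood {m : ℕ} (Δ : MvPolynomial (Fin m) ℂ) (D : Polynomial (Localization.Away Δ))
    (hD : D.Monic) (hsep : D.Separable) (U : Scheme.{0}) [U.Over An.SC]
    [LocallyOfFiniteType (U ↘ An.SC)] (g : U ⟶ specA (Localization.Away D)) [g.IsOver An.SC]
    [IsFinite g] [Etale g] (f : U ⟶ specA (Localization.Away Δ)) [f.IsOver An.SC]
    (hf : f = g ≫ proj Δ D) {G : Cl.Ab (Pts U)} (hG : LocConst.IsFLC G)
    (s : Pts (specA (Localization.Away Δ))) :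
    H888.ClsLC.IsGood (Pts.mapC f) G s := by
  have hf' : Pts.mapC f = (Pts.mapC (proj Δ D)).comp (Pts.mapC g) := by
    subst hf
    ext x
    exact Pts.map_comp _ _ _
  rw [hf']
  obtain ⟨δ, F, hδ, hF, -, e, φ, he, hφ⟩ :=
    H162.PtsSpecA.exists_box Δ D hD hsep (proj Δ D) rfl s (N := Set.univ) Filter.univ_mem
  exact isGood_of_covering (Pts.mapC (proj Δ D)) (Pts.mapC g)
    (H879.Covering.isCoveringMap_map g (H866.EtLH.isLocalHomeomorph_map g))
    (H879.FiniteClosed.finite_fibre_of_isFinite g) (coordA Δ)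
    (isOpenEmbedding_coordA Δ).continuous (coordA Δ s) hδ hF e φ he hφ hG s (mem_box_self _ hδ)

end Groth.Agent.An.H887.PBSch
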