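import Mathlib.Topology.Homotopy.Lifting
import Mathlib.Topology.Homotopy.Contractible
import Mathlib.Topology.Algebra.Module.LocallyConvex
import Mathlib.Analysis.Convex.Contractible

/-!
# Sheets of a covering over simply connected open subsets
-/

set_option autoImplicit false

open Topology

namespace Groth.Agent.An.H887.Sheets

variable {X E : Type*} [TopologicalSpace X] [TopologicalSpace E]

/-- `W` is the range of a continuous section of `p` over `N`. -/
def IsSheet (p : E → X) (N : Set X) (W : Set E) : Prop :=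
  ∃ σ : C(N, E), (∀ n, p (σ n) = n) ∧ Set.range σ = W

theorem IsSheet.mono {p : E → X} {N N' : Set X} {W : Set E} (h : IsSheet p N W) (hN : N' ⊆ N) :
    IsSheet p N' (W ∩ p ⁻¹' N') := by
  obtain ⟨σ, hσ, rfl⟩ := h
  refine ⟨σ.comp ⟨Set.inclusion hN, continuous_inclusion hN⟩, fun n => hσ _, ?_⟩
  ext e
  constructor
  · rintro ⟨n, rfl⟩
    refine ⟨⟨_, rfl⟩, ?_⟩
    change p (σ _) ∈ N'
    rw [hσ]
    exact n.2
  · rintro ⟨⟨n, rfl⟩, h2⟩
    have h3 : (n : X) ∈ N' := by
      have : p (σ n) ∈ N' := h2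
      rwa [hσ] at this
    exact ⟨⟨n, h3⟩, rfl⟩

theorem IsSheet.isOpen {p : E → X} {N : Set X} {W : Set E} (h : IsSheet p N W)
    (hp : IsLocalHomeomorph p) (hN : IsOpen N) : IsOpen W := by
  obtain ⟨σ, hσ, rfl⟩ := h
  have h1 : IsLocalHomeomorph (p ∘ σ) := by
    have : p ∘ σ = Subtype.val := funext hσ
    rw [this]
    exact hN.isOpenEmbedding_subtypeVal.isLocalHomeomorph
  exact (h1.of_comp hp σ.continuous).isOpenMap.isOpen_range

theorem IsSheet.injOn {p : E → X} {N : Set X} {W : Set E} (h : IsSheet p N W) : Set.InjOn p W := by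
  obtain ⟨σ, hσ, rfl⟩ := h
  rintro _ ⟨n, rfl⟩ _ ⟨n', rfl⟩ hnn
  rw [hσ, hσ] at hnn
  rw [Subtype.ext hnn]

theorem IsSheet.image_eq {p : E → X} {N : Set X} {W : Set E} (h : IsSheet p N W) : p '' W = N := by
  obtain ⟨σ, hσ, rfl⟩ := h
  ext x
  constructor
  · rintro ⟨_, ⟨n, rfl⟩, rfl⟩
    rw [hσ]; exact n.2
  · intro hx
    exact ⟨σ ⟨x, hx⟩, ⟨_, rfl⟩, hσ _⟩

theorem IsSheet.subset_preimage {p : E → X} {N : Set X} {W : Set E} (h : IsSheet p N W) :
    W ⊆ p ⁻¹' N := by
  intro e he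
  have : p e ∈ p '' W := ⟨e, he, rfl⟩
  rwa [h.image_eq] at this

/-- the homeomorphism of a sheet with its base -/
noncomputable def IsSheet.homeomorph {p : E → X} (hc : Continuous p) {N : Set X} {W : Set E}
    (h : IsSheet p N W) : W ≃ₜ N where
  toFun e := ⟨p e, h.subset_preimage e.2⟩
  invFun n := ⟨h.choose n, h.choose_spec.2.le ⟨n, rfl⟩⟩
  left_inv e := by
    apply Subtype.ext
    refine h.injOn (h.choose_spec.2.le ⟨_, rfl⟩) e.2 ?_
    exact h.choose_spec.1 _
  right_inv n := Subtype.ext (h.choose_spec.1 n)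
  continuous_toFun := by fun_prop
  continuous_invFun := by fun_prop

theorem IsSheet.homeomorph_apply {p : E → X} (hc : Continuous p) {N : Set X} {W : Set E}
    (h : IsSheet p N W) (e : W) : ((h.homeomorph hc e : N) : X) = p e := rfl

section covering

variable {p : E → X} {O : Set X} (cov : IsCoveringMapOn p O)

include cov

/-- uniqueness of sections through a point -/
theorem sec_unique {N : Set X} [SimplyConnectedSpace N] [LocallyPathConnectedSpace N] (hNO : N ⊆ O)
    {σ τ : C(N, E)} (hσ : ∀ n, p (σ n) = n) (hτ : ∀ n, p (τ n) = n) (n₀ : N) (h : σ n₀ = τ n₀) : σ = τ := by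
  obtain ⟨F, -, hF⟩ := cov.existsUnique_continuousMap_lifts (⟨Subtype.val, continuous_subtype_val⟩ : C(N, X))
    (a₀ := n₀) (e₀ := σ n₀) (hσ n₀) (fun a => hNO a.2)
  rw [hF σ ⟨rfl, funext hσ⟩, hF τ ⟨h.symm, funext hτ⟩]

/-- two sheets over simply connected sets with simply connected intersection meet in nothing or a sheet -/
theorem inter_eq {N N' : Set X} {W W' : Set E} (h : IsSheet p N W) (h' : IsSheet p N' W')
    [SimplyConnectedSpace ↥(N ∩ N')] [LocallyPathConnectedSpace ↥(N ∩ N')] (hNO : N ⊆ O) :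
    W ∩ W' = ∅ ∨ IsSheet p (N ∩ N') (W ∩ W') := by
  rcases Set.eq_empty_or_nonempty (W ∩ W') with h0 | ⟨e, he, he'⟩
  · exact Or.inl h0
  right
  have h1 := h.mono (Set.inter_subset_left (s := N) (t := N'))
  have h1' := h'.mono (Set.inter_subset_right (s := N) (t := N'))
  have he1 : e ∈ W ∩ p ⁻¹' (N ∩ N') := ⟨he, h.subset_preimage he, h'.subset_preimage he'⟩
  have he1' : e ∈ W' ∩ p ⁻¹' (N ∩ N') := ⟨he', h.subset_preimage he, h'.subset_preimage he'⟩
  obtain ⟨σ, hσ, hσ2⟩ := h1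
  obtain ⟨τ, hτ, hτ2⟩ := h1'
  obtain ⟨n, hn⟩ : e ∈ Set.range σ := by rw [hσ2]; exact he1
  obtain ⟨n', hn'⟩ : e ∈ Set.range τ := by rw [hτ2]; exact he1'
  have hnn : n = n' := Subtype.ext (by rw [← hσ n, ← hτ n', hn, hn'])
  subst hnn
  have heq : σ = τ := sec_unique cov (Set.inter_subset_left.trans hNO) hσ hτ n (hn.trans hn'.symm)
  refine ⟨σ, hσ, ?_⟩
  apply Set.Subset.antisymm
  · intro z hz
    refine ⟨?_, ?_⟩
    · have : z ∈ W ∩ p ⁻¹' (N ∩ N') := by rw [← hσ2]; exact hz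
      exact this.1
    · have : z ∈ W' ∩ p ⁻¹' (N ∩ N') := by rw [← hτ2, ← heq]; exact hz
      exact this.1
  · intro z hz
    rw [hσ2]
    exact ⟨hz.1, h.subset_preimage hz.1, h'.subset_preimage hz.2⟩

/-- the preimage of a simply connected open set is a disjoint union of sheets, indexed by the fibre -/
theorem exists_sheets {N : Set X} [SimplyConnectedSpace N] [LocallyPathConnectedSpace N] (hNO : N ⊆ O)
    (n₀ : N) : ∃ W : p ⁻¹' {(n₀ : X)} → Set E, (∀ i, IsSheet p N (W i)) ∧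
      Pairwise (Function.onFun Disjoint W) ∧ ⋃ i, W i = p ⁻¹' N := by
  have key : ∀ (n : N) (e : E), p e = n → ∃ σ : C(N, E), σ n = e ∧ ∀ k, p (σ k) = k := by
    intro n e he
    obtain ⟨F, ⟨hF1, hF2⟩, -⟩ := cov.existsUnique_continuousMap_lifts
      (⟨Subtype.val, continuous_subtype_val⟩ : C(N, X)) (a₀ := n) (e₀ := e) he (fun a => hNO a.2)
    exact ⟨F, hF1, fun k => congrFun hF2 k⟩
  choose σ hσ1 hσ2 using fun i : p ⁻¹' {(n₀ : X)} => key n₀ i.1 i.2
  refine ⟨fun i => Set.range (σ i), fun i => ⟨σ i, hσ2 i, rfl⟩, ?_, ?_⟩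
  · intro i j hij
    rw [Function.onFun, Set.disjoint_left]
    rintro e ⟨n, hn⟩ ⟨n', hn'⟩
    apply hij
    have hnn : n = n' := Subtype.ext (by rw [← hσ2 i n, ← hσ2 j n', hn, hn'])
    subst hnn
    have := sec_unique cov hNO (hσ2 i) (hσ2 j) n (hn.trans hn'.symm)
    apply Subtype.ext
    rw [← hσ1 i, ← hσ1 j, this]
  · ext e
    simp only [Set.mem_iUnion, Set.mem_preimage]
    constructor
    · rintro ⟨i, n, rfl⟩
      rw [hσ2]; exact n.2
    · intro he
      obtain ⟨τ, hτ1, hτ2⟩ := key ⟨p e, he⟩ e rfl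
      refine ⟨⟨τ n₀, hτ2 n₀⟩, ⟨p e, he⟩, ?_⟩
      have := sec_unique cov hNO (hσ2 ⟨τ n₀, hτ2 n₀⟩) hτ2 n₀ (hσ1 _)
      rw [this, hτ1]

end covering

/-- nonempty convex open subsets are simply connected and locally path connected -/
theorem convex_instances {V : Type*} [AddCommGroup V] [Module ℝ V] [TopologicalSpace V]
    [IsTopologicalAddGroup V] [ContinuousSMul ℝ V] [LocallyConvexSpace ℝ V] {N : Set V} (hN : Convex ℝ N)
    (ho : IsOpen N) (hne : N.Nonempty) : SimplyConnectedSpace N ∧ LocallyPathConnectedSpace N := by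
  have : ContractibleSpace N := hN.contractibleSpace hne
  exact ⟨inferInstance, ho.locallyPathConnectedSpace⟩

end Groth.Agent.An.H887.Sheets
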